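import Groth.Agent.Curves.K310.SepExists

/-!
# Curves of every genus with a map of every degree to the line
-/

set_option autoImplicit false

universe u

open CategoryTheory AlgebraicGeometry

namespace K310.DGonal

open SepData

/-- The existence statement. -/
def HasCover (k : Type u) [Field k] (g d : ℕ) : Prop :=
  ∃ (X : Scheme.{u}) (f : X ⟶ Spec (CommRingCat.of k)), Curve.IsSmoothProperCurve k X f ∧
      @Curv2.genus k _ X ⟨f⟩ = g ∧ ∃ π : X ⟶ CohB1.ProjSpace 1 k,
        π ≫ CohB1.ProjSpace.toSpec 1 k = f ∧ Mor2.IsFinLocFreeOfDeg d π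

variable (k : Type u) [Field k] [IsAlgClosed k]

/-- The hyperelliptic case. -/
theorem hyper (g i j : ℕ) (h0 : 0 < i * 2 + j * (2 * g + 1)) : HasCover k g (i * 2 + j * (2 * g + 1)) := by
  refine exists_cover_of_param k 1 1 (2 * g + 1) (fun _ => 1) one_pos one_pos (by omega) (fun _ => one_pos)
    (fun _ => Nat.coprime_one_right _) ?_ ⟨⟨0, by omega⟩, by simp⟩ i j _ (by simp) h0 g (by simp)
  simp only [Finset.sum_const, Finset.card_univ, Fintype.card_fin, smul_eq_mul, mul_one]
  rw [Nat.coprime_iff_gcd_eq_one]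
  have : (2 * g + 1) = 1 + 2 * g := by ring
  rw [this]
  simp

theorem coprime_three {n : ℕ} (h : n % 3 ≠ 0) : Nat.Coprime n 3 := by
  rw [Nat.coprime_comm, Nat.Prime.coprime_iff_not_dvd Nat.prime_three]
  intro h1
  exact h (Nat.mod_eq_zero_of_dvd h1)

/-- The family with a triple root. -/
theorem triple (h d' δ j : ℕ) (hp : (2 * h + 1).Prime) (hd' : 4 ≤ d') (hnd : ¬ (2 * h + 1) ∣ d')
    (hδ : δ + 1 ≤ 2 * h) (g : ℕ) (hg : g + δ = h * (d' - 1)) (hj : 0 < j) :
    HasCover k g (j * (2 * h + 1)) := by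
  obtain ⟨e, rfl⟩ : ∃ e, d' = e + 3 := ⟨d' - 3, by omega⟩
  have hcop : Nat.Coprime (2 * h + 1) (e + 3) := (Nat.Prime.coprime_iff_not_dvd hp).mpr hnd
  have hg' : 2 * (g + δ) = 2 * h * (e + 2) := by
    rw [hg]
    have : e + 3 - 1 = e + 2 := by omega
    rw [this]
    ring
  by_cases h3 : δ % 3 = 2
  · -- multiplicities `(δ, 2, 1, …)`
    obtain ⟨r, hr⟩ : ∃ r, 2 * h + 1 = δ + 2 + r := ⟨2 * h + 1 - δ - 2, by omega⟩
    have hsum : ∑ l, (Fin.cons δ (Fin.cons 2 (fun _ : Fin r => 1) : Fin (r + 1) → ℕ) : Fin (r + 1 + 1) → ℕ) l =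
        2 * h + 1 := by
      rw [Fin.sum_univ_succ, Fin.sum_univ_succ]
      simp
      omega
    refine exists_cover_of_param k e 3 (r + 1 + 1)
      (Fin.cons δ (Fin.cons 2 (fun _ : Fin r => 1) : Fin (r + 1) → ℕ)) (by omega) (by omega) (by omega)
      ?_ ?_ ?_ ?_ 0 j _ ?_ (by positivity) g ?_
    · intro l
      refine Fin.cases ?_ (fun l => Fin.cases ?_ (fun l => ?_) l) l <;> simp
      omega
    · intro l
      refine Fin.cases ?_ (fun l => Fin.cases ?_ (fun l => ?_) l) l
      · simp only [Fin.cons_zero]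
        exact coprime_three (by omega)
      · simp only [Fin.cons_succ, Fin.cons_zero]
        decide
      · simp only [Fin.cons_succ]
        exact Nat.coprime_one_left 3
    · rw [hsum]; exact hcop
    · by_contra hcon
      push Not at hcon
      have h2 : ((2 : ℕ) : k) = 0 := by simpa using hcon 1
      have h4 : ((2 * h + 1 : ℕ) : k) = 0 := by
        rw [← hsum, Nat.cast_sum]
        exact Finset.sum_eq_zero fun l _ => hcon l
      rw [Nat.cast_add, Nat.cast_mul, h2, zero_mul, zero_add, Nat.cast_one] at h4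
      exact one_ne_zero h4
    · rw [hsum]; ring
    · rw [hsum, Fin.sum_univ_succ, Fin.sum_univ_succ]
      simp only [Fin.cons_zero, Fin.cons_succ, Finset.sum_const, Finset.card_univ, Fintype.card_fin, smul_eq_mul]
      have e1 : e + 3 - 1 = e + 2 := by omega
      have e2 : 2 * h + 1 - 1 = 2 * h := by omega
      rw [e1, e2, ← hg']
      omega
  · -- multiplicities `(δ + 1, 1, …)`
    obtain ⟨r, hr⟩ : ∃ r, 2 * h + 1 = δ + 1 + (r + 1) := ⟨2 * h + 1 - δ - 2, by omega⟩
    have hsum : ∑ l, (Fin.cons (δ + 1) (fun _ : Fin (r + 1) => 1) : Fin (r + 1 + 1) → ℕ) l = 2 * h + 1 := by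
      rw [Fin.sum_univ_succ]
      simp
      omega
    refine exists_cover_of_param k e 3 (r + 1 + 1) (Fin.cons (δ + 1) (fun _ : Fin (r + 1) => 1)) (by omega)
      (by omega) (by omega) ?_ ?_ ?_ ⟨1, ?_⟩ 0 j _ ?_ (by positivity) g ?_
    · intro l
      refine Fin.cases ?_ (fun l => ?_) l <;> simp
    · intro l
      refine Fin.cases ?_ (fun l => ?_) l
      · simp only [Fin.cons_zero]
        exact coprime_three (by omega)
      · simp only [Fin.cons_succ]
        exact Nat.coprime_one_left 3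
    · rw [hsum]; exact hcop
    · have : (1 : Fin (r + 1 + 1)) = Fin.succ 0 := rfl
      rw [this, Fin.cons_succ]
      simp
    · rw [hsum]; ring
    · rw [hsum, Fin.sum_univ_succ]
      simp only [Fin.cons_zero, Fin.cons_succ, Finset.sum_const, Finset.card_univ, Fintype.card_fin, smul_eq_mul]
      have e1 : e + 3 - 1 = e + 2 := by omega
      have e2 : 2 * h + 1 - 1 = 2 * h := by omega
      rw [e1, e2, ← hg']
      omega

/-- **Every genus and every degree `≥ 2`.** -/
theorem exists_all (g d : ℕ) (hd : 2 ≤ d) : HasCover k g d := by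
  by_cases he : d % 2 = 0
  · have := hyper k g (d / 2) 0 (by omega)
    have e1 : d / 2 * 2 + 0 * (2 * g + 1) = d := by omega
    rwa [e1] at this
  by_cases hlarge : 2 * g + 1 ≤ d
  · have := hyper k g ((d - (2 * g + 1)) / 2) 1 (by omega)
    have e1 : (d - (2 * g + 1)) / 2 * 2 + 1 * (2 * g + 1) = d := by omega
    rwa [e1] at this
  have hp : d.minFac.Prime := Nat.minFac_prime (by omega)
  obtain ⟨j, hj⟩ := Nat.minFac_dvd d
  have hodd : d.minFac % 2 = 1 := by
    by_contra h
    have h1 : 2 ∣ d.minFac := Nat.dvd_of_mod_eq_zero (by omega)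
    have h2 : 2 ∣ d := h1.trans (Nat.minFac_dvd d)
    omega
  obtain ⟨h, hh⟩ : ∃ h, d.minFac = 2 * h + 1 := ⟨d.minFac / 2, by omega⟩
  have hle := Nat.minFac_le (show 0 < d by omega)
  have hp2 := hp.two_le
  rw [hh] at hp hj hle hp2
  have hj0 : 0 < j := by
    by_contra h0
    have : j = 0 := by omega
    rw [this, mul_zero] at hj
    omega
  have hh0 : 0 < h := by omega
  -- `g - 1 = h q + t`
  have hdiv := Nat.div_add_mod (g - 1) h
  have ht := Nat.mod_lt (g - 1) hh0
  set q := (g - 1) / h with hq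
  set t := (g - 1) % h with ht'
  have hq1 : 1 ≤ q := (Nat.one_le_div_iff hh0).mpr (by omega)
  have key : ∃ d' δ, 4 ≤ d' ∧ ¬ (2 * h + 1) ∣ d' ∧ δ + 1 ≤ 2 * h ∧ g + δ = h * (d' - 1) := by
    by_cases hdvd : (2 * h + 1) ∣ q + 3
    · have hq2 : q ≠ 1 := by
        rintro h1
        rw [h1] at hdvd
        have h2 := Nat.le_of_dvd (by omega) hdvd
        have h3 : h = 1 := by omega
        rw [h3] at hdvd
        omega
      refine ⟨q + 2, h - t - 1, by omega, ?_, by omega, ?_⟩
      · intro h1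
        have h2 := (Nat.dvd_sub hdvd h1)
        have h3 : q + 3 - (q + 2) = 1 := by omega
        rw [h3, Nat.dvd_one] at h2
        omega
      · have h1 : q + 2 - 1 = q + 1 := by omega
        rw [h1, mul_add, mul_one]
        omega
    · refine ⟨q + 3, 2 * h - t - 1, by omega, hdvd, by omega, ?_⟩
      have h1 : q + 3 - 1 = q + 2 := by omega
      rw [h1, mul_add]
      omega
  obtain ⟨d', δ, h1, h2, h3, h4⟩ := key
  have := triple k h d' δ j hp h1 h2 h3 g h4 hj0
  rwa [mul_comm j, ← hj] at this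

end K310.DGonal
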