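import Mathlib.FieldTheory.IntermediateField.Adjoin.Basic
import Mathlib.FieldTheory.IsAlgClosed.Basic
import Mathlib.Algebra.Polynomial.Reverse
import Mathlib.RingTheory.Algebraic.Basic

/-!
# Degree functions on a function field

`IsDeg k D`: the function `D : K → ℤ` is minus a discrete valuation of `K` with residue field `k` (its value at `0` is
arbitrary).
-/

set_option autoImplicit false

open Polynomial

namespace K310.DegFun

/-- Minus a discrete valuation with residue field `k`. -/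
structure IsDeg (k : Type*) {K : Type*} [Field k] [Field K] [Algebra k K] (D : K → ℤ) : Prop where
  mul : ∀ f g, f ≠ 0 → g ≠ 0 → D (f * g) = D f + D g
  add : ∀ f g, f ≠ 0 → g ≠ 0 → f + g ≠ 0 → D (f + g) ≤ max (D f) (D g)
  const : ∀ c : k, c ≠ 0 → D (algebraMap k K c) = 0
  res : ∀ f g, f ≠ 0 → g ≠ 0 → D f = D g → ∃ c : k, f - c • g = 0 ∨ D (f - c • g) < D f

variable {k K : Type*} [Field k] [Field K] [Algebra k K] {D : K → ℤ} (H : IsDeg k D)

/-- The filtration by degree. -/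
def IsDeg.Fil (n : ℤ) : Submodule k K where
  carrier := {f | f = 0 ∨ D f ≤ n}
  zero_mem' := Or.inl rfl
  add_mem' := by
    intro f g hf hg
    by_cases hf0 : f = 0
    · rw [hf0, zero_add]; exact hg
    by_cases hg0 : g = 0
    · rw [hg0, add_zero]; exact hf
    by_cases hfg : f + g = 0
    · exact Or.inl hfg
    refine Or.inr ((H.add f g hf0 hg0 hfg).trans (max_le ?_ ?_))
    · exact hf.resolve_left hf0
    · exact hg.resolve_left hg0
  smul_mem' := by
    intro c f hf
    by_cases hc : c = 0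
    · exact Or.inl (by rw [hc, zero_smul])
    by_cases hf0 : f = 0
    · exact Or.inl (by rw [hf0, smul_zero])
    refine Or.inr ?_
    rw [Algebra.smul_def, H.mul _ _ ((_root_.map_ne_zero _).mpr hc) hf0, H.const c hc, zero_add]
    exact hf.resolve_left hf0

theorem IsDeg.mem_fil {n : ℤ} {f : K} : f ∈ H.Fil n ↔ f = 0 ∨ D f ≤ n := Iff.rfl

theorem IsDeg.mem_fil_of_ne {n : ℤ} {f : K} (hf : f ≠ 0) : f ∈ H.Fil n ↔ D f ≤ n :=
  ⟨fun h => h.resolve_left hf, Or.inr⟩

theorem IsDeg.mem_fil_of_le {n : ℤ} {f : K} (hf : D f ≤ n) : f ∈ H.Fil n := Or.inr hf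

theorem IsDeg.fil_mono {m n : ℤ} (h : m ≤ n) : H.Fil m ≤ H.Fil n := by
  rintro f (hf | hf)
  · exact Or.inl hf
  · exact Or.inr (hf.trans h)

theorem IsDeg.mul_mem_fil {m n : ℤ} {f g : K} (hf : f ∈ H.Fil m) (hg : g ∈ H.Fil n) : f * g ∈ H.Fil (m + n) := by
  by_cases hf0 : f = 0
  · exact Or.inl (by rw [hf0, zero_mul])
  by_cases hg0 : g = 0
  · exact Or.inl (by rw [hg0, mul_zero])
  rw [H.mem_fil_of_ne hf0] at hf
  rw [H.mem_fil_of_ne hg0] at hg
  rw [H.mem_fil_of_ne (mul_ne_zero hf0 hg0), H.mul _ _ hf0 hg0]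
  exact add_le_add hf hg

include H

theorem IsDeg.one : D 1 = 0 := by
  have := H.const 1 one_ne_zero
  rwa [map_one] at this

theorem IsDeg.inv {f : K} (hf : f ≠ 0) : D f⁻¹ = - D f := by
  have := H.mul f f⁻¹ hf (inv_ne_zero hf)
  rw [mul_inv_cancel₀ hf, H.one] at this
  omega

theorem IsDeg.pow {f : K} (hf : f ≠ 0) (n : ℕ) : D (f ^ n) = n * D f := by
  induction n with
  | zero => simp [H.one]
  | succ n ih =>
    rw [pow_succ, H.mul _ _ (pow_ne_zero _ hf) hf, ih]
    push_cast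
    ring

theorem IsDeg.div {f g : K} (hf : f ≠ 0) (hg : g ≠ 0) : D (f / g) = D f - D g := by
  rw [div_eq_mul_inv, H.mul _ _ hf (inv_ne_zero hg), H.inv hg]
  ring

/-- If the degrees of the nonzero terms of a sum are distinct, each term has degree at most the degree of the sum. -/
theorem IsDeg.mem_fil_of_sum {ι : Type*} (s : Finset ι) (g : ι → K)
    (hd : ∀ i ∈ s, ∀ j ∈ s, i ≠ j → g i ≠ 0 → g j ≠ 0 → D (g i) ≠ D (g j)) (n : ℤ)
    (hs : ∑ i ∈ s, g i ∈ H.Fil n) : ∀ i ∈ s, g i ∈ H.Fil n := by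
  classical
  by_contra hcon
  push Not at hcon
  obtain ⟨i0, hi0, hi0'⟩ := hcon
  have hT : (s.filter (fun i => g i ∉ H.Fil n)).Nonempty := ⟨i0, Finset.mem_filter.mpr ⟨hi0, hi0'⟩⟩
  obtain ⟨i, hi, hmax⟩ := Finset.exists_max_image _ (fun i => D (g i)) hT
  rw [Finset.mem_filter] at hi
  have hne : g i ≠ 0 := fun h => hi.2 (by rw [h]; exact zero_mem _)
  have hn : n < D (g i) := by
    by_contra h
    exact hi.2 (H.mem_fil_of_le (not_lt.mp h))
  have h1 : ∑ j ∈ s.erase i, g j ∈ H.Fil (D (g i) - 1) := by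
    refine sum_mem fun j hj => ?_
    rw [Finset.mem_erase] at hj
    by_cases hj0 : g j = 0
    · rw [hj0]; exact zero_mem _
    by_cases hjn : g j ∈ H.Fil n
    · exact H.fil_mono (by omega) hjn
    · have h2 := hmax j (Finset.mem_filter.mpr ⟨hj.2, hjn⟩)
      have h3 := hd j hj.2 i hi.1 hj.1 hj0 hne
      exact H.mem_fil_of_le (by omega)
  have h2 : g i ∈ H.Fil (D (g i) - 1) := by
    rw [← Finset.add_sum_erase s g hi.1] at hs
    have := sub_mem (H.fil_mono (show n ≤ D (g i) - 1 by omega) hs) h1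
    rwa [add_sub_cancel_right] at this
  rw [H.mem_fil_of_ne hne] at h2
  omega

theorem IsDeg.exists_res {f g : K} (hg : g ≠ 0) {n : ℤ} (hf : f ∈ H.Fil n) (hgn : D g = n) :
    ∃ c : k, f - c • g ∈ H.Fil (n - 1) := by
  by_cases hf0 : f = 0
  · exact ⟨0, by rw [hf0, zero_smul, sub_zero]; exact zero_mem _⟩
  rw [H.mem_fil_of_ne hf0] at hf
  rcases hf.lt_or_eq with h | h
  · exact ⟨0, by rw [zero_smul, sub_zero, H.mem_fil_of_ne hf0]; omega⟩
  · obtain ⟨c, hc⟩ := H.res f g hf0 hg (by omega)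
    refine ⟨c, ?_⟩
    rcases hc with hc | hc
    · rw [hc]; exact zero_mem _
    · exact H.mem_fil_of_le (by omega)

/-- Degree of a polynomial in an element of positive degree. -/
theorem IsDeg.D_aeval {z : K} {d : ℤ} (hz : z ≠ 0) (hd : 0 < d) (hzd : D z = d) {p : k[X]} (hp : p ≠ 0) :
    aeval z p ≠ 0 ∧ D (aeval z p) = d * p.natDegree := by
  have h0 : p.leadingCoeff ≠ 0 := leadingCoeff_ne_zero.mpr hp
  have h1 : D (algebraMap k K p.leadingCoeff * z ^ p.natDegree) = d * p.natDegree := by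
    rw [H.mul _ _ ((_root_.map_ne_zero _).mpr h0) (pow_ne_zero _ hz), H.const _ h0, H.pow hz, hzd]
    ring
  have h2 : aeval z p - algebraMap k K p.leadingCoeff * z ^ p.natDegree ∈ H.Fil (d * p.natDegree - 1) := by
    rw [aeval_eq_sum_range, Finset.sum_range_succ, ← Algebra.smul_def, coeff_natDegree, add_sub_cancel_right]
    refine sum_mem fun i hi => Submodule.smul_mem _ _ ?_
    rw [Finset.mem_range] at hi
    rw [H.mem_fil_of_ne (pow_ne_zero _ hz), H.pow hz, hzd]
    have : (i : ℤ) + 1 ≤ p.natDegree := by exact_mod_cast hi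
    nlinarith
  have hne : algebraMap k K p.leadingCoeff * z ^ p.natDegree ≠ 0 :=
    mul_ne_zero ((_root_.map_ne_zero _).mpr h0) (pow_ne_zero _ hz)
  have key : ∀ n, aeval z p ∈ H.Fil n → d * p.natDegree ≤ n := by
    intro n hn
    by_contra hlt
    push Not at hlt
    have h3 : algebraMap k K p.leadingCoeff * z ^ p.natDegree ∈ H.Fil (d * p.natDegree - 1) := by
      have := sub_mem (H.fil_mono (show n ≤ d * p.natDegree - 1 by omega) hn) h2
      rwa [sub_sub_cancel] at this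
    rw [H.mem_fil_of_ne hne] at h3
    omega
  have hne2 : aeval z p ≠ 0 := by
    intro h
    have := key (d * p.natDegree - 1) (by rw [h]; exact zero_mem _)
    omega
  refine ⟨hne2, le_antisymm ?_ (key _ (H.mem_fil_of_le le_rfl))⟩
  have h3 : aeval z p ∈ H.Fil (d * p.natDegree) := by
    have := add_mem (H.fil_mono (show d * p.natDegree - 1 ≤ d * p.natDegree by omega) h2)
      (H.mem_fil_of_le h1.le)
    rwa [sub_add_cancel] at this
  rwa [H.mem_fil_of_ne hne2] at h3

theorem IsDeg.transcendental {z : K} {d : ℤ} (hz : z ≠ 0) (hd : 0 < d) (hzd : D z = d) : Transcendental k z := by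
  rintro ⟨p, hp, hpz⟩
  exact (H.D_aeval hz hd hzd hp).1 hpz

/-- The degree of an element of `k(z)` is a multiple of the degree of `z`. -/
theorem IsDeg.dvd_of_mem_adjoin {z : K} {d : ℤ} (hz : z ≠ 0) (hd : 0 < d) (hzd : D z = d) {c : K}
    (hc : c ∈ IntermediateField.adjoin k {z}) (hc0 : c ≠ 0) : d ∣ D c := by
  obtain ⟨r, s, rfl⟩ := (IntermediateField.mem_adjoin_simple_iff k c).mp hc
  have hr : r ≠ 0 := by rintro rfl; simp at hc0
  have hs : s ≠ 0 := by rintro rfl; simp at hc0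
  obtain ⟨hr1, hr2⟩ := H.D_aeval hz hd hzd hr
  obtain ⟨hs1, hs2⟩ := H.D_aeval hz hd hzd hs
  rw [H.div hr1 hs1, hr2, hs2]
  exact dvd_sub (dvd_mul_right _ _) (dvd_mul_right _ _)

/-- An element of `k[z, 1/z]` of degree at most zero is in `k[1/z]`. -/
theorem IsDeg.mem_adjoin_inv {z : K} {d : ℤ} (hz : z ≠ 0) (hd : 0 < d) (hzd : D z = d) {w : K} {N : ℕ}
    (hw : z ^ N * w ∈ Algebra.adjoin k {z}) (hD : w ∈ H.Fil 0) : w ∈ Algebra.adjoin k {z⁻¹} := by
  rw [Algebra.adjoin_singleton_eq_range_aeval] at hw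
  obtain ⟨p, hp⟩ := hw
  change aeval z p = z ^ N * w at hp
  by_cases hp0 : p = 0
  · rw [hp0, map_zero, eq_comm, mul_eq_zero, or_iff_right (pow_ne_zero _ hz)] at hp
    rw [hp]
    exact zero_mem _
  have hw0 : w ≠ 0 := by
    rintro rfl
    rw [mul_zero] at hp
    exact (H.D_aeval hz hd hzd hp0).1 hp
  have h1 := (H.D_aeval hz hd hzd hp0).2
  rw [H.mem_fil_of_ne hw0] at hD
  rw [hp, H.mul _ _ (pow_ne_zero _ hz) hw0, H.pow hz, hzd] at h1
  have hN : p.natDegree ≤ N := by
    have : d * (p.natDegree : ℤ) ≤ d * N := by linarith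
    exact_mod_cast le_of_mul_le_mul_left this hd
  let _ := invertibleOfNonzero hz
  have h2 := eval₂_reflect_mul_pow (algebraMap k K) z N p hN
  change aeval (⅟z) (reflect N p) * z ^ N = aeval z p at h2
  rw [hp, mul_comm (z ^ N)] at h2
  have h3 := mul_right_cancel₀ (pow_ne_zero _ hz) h2
  rw [← h3, invOf_eq_inv, Algebra.adjoin_singleton_eq_range_aeval]
  exact ⟨reflect N p, rfl⟩

end K310.DegFun
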