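import Groth.Agent.CurvSt.K310.BasisCover
import Groth.Agent.Curves.K310.DegFun

/-!
# Affine curves with one place at infinity and their covers of the line

`IsOnePlace k D B`: `B` is a normal `k`-subalgebra of `K` with field of fractions `K`, on which the degree function `D` is
nonnegative, with finitely many gaps.  Every `z ∈ B` of positive degree `d` has an integral basis (Apéry basis) over the
two charts of the line, and the genus of the cover is the number of gaps of `B`.
-/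

set_option autoImplicit false
set_option linter.style.haveILetI false
set_option linter.unusedSectionVars false

universe u

open Polynomial

namespace K310.OnePlace

open DegFun BasisCover Groth.Agent.Ega2.NormChart DoubleCoverSpan

/-- The gaps of the semigroup of degrees of `B`. -/
def gapSet {k K : Type*} [Field k] [Field K] [Algebra k K] (D : K → ℤ) (B : Subalgebra k K) : Set ℕ :=
  {n : ℕ | ∀ b ∈ B, b ≠ 0 → D b ≠ n}

/-- A normal affine curve with one place at infinity. -/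
structure IsOnePlace (k : Type*) {K : Type*} [Field k] [Field K] [Algebra k K] (D : K → ℤ)
    (B : Subalgebra k K) : Prop where
  deg : IsDeg k D
  nonneg : ∀ b ∈ B, b ≠ 0 → 0 ≤ D b
  int : ∀ f : K, B.toSubring.subtype.IsIntegralElem f → f ∈ B
  frac : ∀ f : K, ∃ a ∈ B, ∃ b ∈ B, b ≠ 0 ∧ f * b = a
  gaps : (gapSet D B).Finite

variable {k K : Type*} [Field k] [Field K] [Algebra k K] {D : K → ℤ} {B : Subalgebra k K}

/-- An Apéry system of `B`. -/
structure IsApery (D : K → ℤ) (B : Subalgebra k K) (d : ℕ) (b : Fin d → K) (s : Fin d → ℕ) : Prop where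
  mem : ∀ j, b j ∈ B
  ne : ∀ j, b j ≠ 0
  deg : ∀ j, D (b j) = s j
  mod : ∀ j, s j % d = j
  min : ∀ j : Fin d, ∀ f ∈ B, f ≠ 0 → ∀ n : ℕ, D f = n → n % d = (j : ℕ) → s j ≤ n

theorem exists_apery (hg : (gapSet D B).Finite) {d : ℕ} (hd : 0 < d) :
    ∃ (b : Fin d → K) (s : Fin d → ℕ), IsApery D B d b s := by
  classical
  obtain ⟨N, hN⟩ := hg.bddAbove
  have hex : ∀ j : Fin d, ∃ n : ℕ, n % d = j ∧ n ∉ gapSet D B := by
    intro j
    refine ⟨j + d * (N + 1), ?_, fun h => ?_⟩
    · rw [Nat.add_mul_mod_self_left, Nat.mod_eq_of_lt j.2]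
    · have h1 := hN h
      have h2 : N + 1 ≤ d * (N + 1) := Nat.le_mul_of_pos_left _ hd
      omega
  have h1 : ∀ j : Fin d, ∃ (s : ℕ) (b : K), b ∈ B ∧ b ≠ 0 ∧ D b = s ∧ s % d = j ∧
      ∀ f ∈ B, f ≠ 0 → ∀ n : ℕ, D f = n → n % d = (j : ℕ) → s ≤ n := by
    intro j
    obtain ⟨s, hs, hmin⟩ : ∃ s, (s % d = j ∧ s ∉ gapSet D B) ∧ ∀ n, (n % d = j ∧ n ∉ gapSet D B) → s ≤ n :=
      ⟨sInf {n | n % d = j ∧ n ∉ gapSet D B}, Nat.sInf_mem (s := {n | n % d = j ∧ n ∉ gapSet D B}) (hex j),
        fun n hn => Nat.sInf_le (s := {n | n % d = j ∧ n ∉ gapSet D B}) hn⟩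
    have h2 := hs.2
    simp only [gapSet, Set.mem_ofPred_eq, not_forall, not_not] at h2
    obtain ⟨b, hb, hb0, hbD⟩ := h2
    refine ⟨s, b, hb, hb0, hbD, hs.1, ?_⟩
    intro f hf hf0 n hn hnj
    refine hmin n ⟨hnj, ?_⟩
    intro h
    exact h f hf hf0 hn
  choose s b h1 h2 h3 h4 h5 using h1
  exact ⟨b, s, h1, h2, h3, h4, h5⟩

section

variable {d : ℕ} {b : Fin d → K} {s : Fin d → ℕ} (A : IsApery D B d b s) (H : IsDeg k D)
  {z : K} (hzB : z ∈ B) (hz : z ≠ 0) (hd : 0 < d) (hzd : D z = d)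

include A H hz hd hzd

theorem deg_smul {c : K} (hc : c ∈ IntermediateField.adjoin k {z}) (hc0 : c ≠ 0) (j : Fin d) :
    D (c * b j) % d = j := by
  have h1 := H.dvd_of_mem_adjoin hz (by exact_mod_cast hd) hzd hc hc0
  obtain ⟨q, hq⟩ := h1
  rw [H.mul _ _ hc0 (A.ne j), hq, A.deg j, Int.add_comm, Int.add_mul_emod_self_left]
  have := A.mod j
  exact_mod_cast this

theorem mem_fil_of_sum (c : Fin d → K) (hc : ∀ j, c j ∈ IntermediateField.adjoin k {z}) (n : ℤ)
    (h : ∑ j, c j * b j ∈ H.Fil n) (j : Fin d) : c j * b j ∈ H.Fil n := by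
  refine H.mem_fil_of_sum Finset.univ _ ?_ n h j (Finset.mem_univ j)
  intro i _ i' _ hii' hi hi' heq
  apply hii'
  have h1 := deg_smul A H hz hd hzd (hc i) (left_ne_zero_of_mul hi) i
  have h2 := deg_smul A H hz hd hzd (hc i') (left_ne_zero_of_mul hi') i'
  rw [heq, h2] at h1
  exact (Fin.ext (by exact_mod_cast h1)).symm

theorem eq_zero_of_sum (c : Fin d → K) (hc : ∀ j, c j ∈ IntermediateField.adjoin k {z})
    (h : ∑ j, c j * b j = 0) (j : Fin d) : c j = 0 := by
  by_contra hj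
  have h1 := mem_fil_of_sum A H hz hd hzd c hc (D (c j * b j) - 1) (by rw [h]; exact zero_mem _) j
  rw [H.mem_fil_of_ne (mul_ne_zero hj (A.ne j))] at h1
  omega

theorem notMem_gapSet_iff (hzB : z ∈ B) (n : ℕ) :
    n ∉ gapSet D B ↔ s ⟨n % d, Nat.mod_lt _ hd⟩ ≤ n := by
  constructor
  · intro h
    simp only [gapSet, Set.mem_ofPred_eq, not_forall, not_not] at h
    obtain ⟨f, hf, hf0, hfD⟩ := h
    exact A.min _ f hf hf0 n hfD rfl
  · intro h hn
    have h1 := A.mod ⟨n % d, Nat.mod_lt _ hd⟩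
    set m := s ⟨n % d, Nat.mod_lt _ hd⟩ with hm
    simp only at h1
    have h2 : d ∣ n - m := (Nat.modEq_iff_dvd' h).mp h1
    obtain ⟨q, hq⟩ := h2
    refine hn (z ^ q * b ⟨n % d, Nat.mod_lt _ hd⟩) (mul_mem (pow_mem hzB q) (A.mem _))
      (mul_ne_zero (pow_ne_zero _ hz) (A.ne _)) ?_
    rw [H.mul _ _ (pow_ne_zero _ hz) (A.ne _), H.pow hz, hzd, A.deg, ← hm]
    have h3 : n = m + d * q := by omega
    rw [h3]
    push_cast
    ring

theorem exists_poly_sum (hzB : z ∈ B) (hnn : ∀ f ∈ B, f ≠ 0 → 0 ≤ D f) :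
    ∀ n : ℕ, ∀ f ∈ B, f ∈ H.Fil ((n : ℤ) - 1) → ∃ p : Fin d → k[X], f = ∑ j, aeval z (p j) * b j := by
  classical
  intro n
  induction n with
  | zero =>
    intro f hf hfn
    have : f = 0 := by
      by_contra h
      have h1 := hnn f hf h
      rw [H.mem_fil_of_ne h] at hfn
      push_cast at hfn
      omega
    exact ⟨0, by simp [this]⟩
  | succ n ih =>
    intro f hf hfn
    have e1 : ((n + 1 : ℕ) : ℤ) - 1 = n := by push_cast; ring
    rw [e1] at hfn
    by_cases hlt : f ∈ H.Fil ((n : ℤ) - 1)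
    · exact ih f hf hlt
    have hf0 : f ≠ 0 := by
      rintro rfl
      exact hlt (zero_mem _)
    have hDf : D f = n := by
      rw [H.mem_fil_of_ne hf0] at hfn hlt
      omega
    have h1 : s ⟨n % d, Nat.mod_lt _ hd⟩ ≤ n := A.min _ f hf hf0 n hDf rfl
    have h1' := A.mod ⟨n % d, Nat.mod_lt _ hd⟩
    set j : Fin d := ⟨n % d, Nat.mod_lt _ hd⟩ with hj
    have h2 : d ∣ n - s j := (Nat.modEq_iff_dvd' h1).mp h1'
    obtain ⟨q, hq⟩ := h2
    have h3 : D (z ^ q * b j) = n := by
      rw [H.mul _ _ (pow_ne_zero _ hz) (A.ne _), H.pow hz, hzd, A.deg]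
      have h3 : n = s j + d * q := by omega
      rw [h3]
      push_cast
      ring
    obtain ⟨c, hc⟩ := H.exists_res (mul_ne_zero (pow_ne_zero _ hz) (A.ne j)) hfn h3
    obtain ⟨p, hp⟩ := ih _ (sub_mem hf (B.smul_mem (mul_mem (pow_mem hzB q) (A.mem j)) c)) hc
    refine ⟨p + Pi.single j (C c * X ^ q), ?_⟩
    rw [sub_eq_iff_eq_add] at hp
    rw [hp]
    simp only [Pi.add_apply, map_add, add_mul, Finset.sum_add_distrib]
    congr 1
    rw [Finset.sum_eq_single j]
    · simp [Algebra.smul_def, mul_assoc]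
    · intro i _ hi
      simp [Pi.single_eq_of_ne hi]
    · simp

end

section Main

open IntermediateField

variable (P : IsOnePlace k D B) {d : ℕ} {b : Fin d → K} {s : Fin d → ℕ} (A : IsApery D B d b s)
  {z : K} (hzB : z ∈ B) (hz : z ≠ 0) (hd : 0 < d) (hzd : D z = d)

theorem coe_mem_adjoin_iff (z : K) (u c : k⟮z⟯) :
    c ∈ Algebra.adjoin k {u} ↔ (c : K) ∈ Algebra.adjoin k {(u : K)} := by
  constructor
  · intro hc
    exact map_mem_adjoin (k := k) (F := k⟮z⟯) (K := K) hc
  · intro hc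
    obtain ⟨w, hw, hwc⟩ := mem_adjoin_map (k := k) (F := k⟮z⟯) (K := K) (u := u) hc
    have : w = c := Subtype.ext hwc
    rwa [← this]

theorem aeval_mem_adjoin (z : K) (p : k[X]) : aeval z p ∈ Algebra.adjoin k {z} := by
  rw [Algebra.adjoin_singleton_eq_range_aeval]
  exact ⟨p, rfl⟩

theorem aeval_mem_field (z : K) (p : k[X]) : aeval z p ∈ k⟮z⟯ :=
  IntermediateField.algebra_adjoin_le_adjoin k {z} (aeval_mem_adjoin z p)

include P A hzB hz hd hzd

theorem mem_iff (f : K) : f ∈ B ↔ ∃ p : Fin d → k[X], f = ∑ j, aeval z (p j) * b j := by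
  constructor
  · intro hf
    refine exists_poly_sum A P.deg hz hd hzd hzB P.nonneg ((D f).toNat + 1) f hf ?_
    by_cases hf0 : f = 0
    · rw [hf0]; exact zero_mem _
    refine P.deg.mem_fil_of_le ?_
    have := P.nonneg f hf hf0
    push_cast
    rw [Int.toNat_of_nonneg this]
    omega
  · rintro ⟨p, rfl⟩
    refine sum_mem fun j _ => mul_mem ?_ (A.mem j)
    have h1 : Algebra.adjoin k {z} ≤ B := Algebra.adjoin_le (by simpa using hzB)
    exact h1 (aeval_mem_adjoin z _)

theorem mem_span_of_mem {f : K} (hf : f ∈ B) : f ∈ Submodule.span k⟮z⟯ (Set.range b) := by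
  obtain ⟨p, rfl⟩ := (mem_iff P A hzB hz hd hzd f).mp hf
  refine sum_mem fun j _ => ?_
  have : aeval z (p j) * b j = (⟨aeval z (p j), aeval_mem_field z _⟩ : k⟮z⟯) • b j := by
    rw [Algebra.smul_def]
    rfl
  rw [this]
  exact Submodule.smul_mem _ _ (Submodule.subset_span ⟨j, rfl⟩)

theorem mul_mem_span {f w : K} (hf : f ∈ B) (hw : w ∈ Submodule.span k⟮z⟯ (Set.range b)) :
    w * f ∈ Submodule.span k⟮z⟯ (Set.range b) := by
  induction hw using Submodule.span_induction with
  | mem y hy =>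
    obtain ⟨j, rfl⟩ := hy
    exact mem_span_of_mem P A hzB hz hd hzd (mul_mem (A.mem j) hf)
  | zero => rw [zero_mul]; exact zero_mem _
  | add x y _ _ hx hy => rw [add_mul]; exact add_mem hx hy
  | smul c x _ hx => rw [smul_mul_assoc]; exact Submodule.smul_mem _ c hx

theorem span_eq_top : Submodule.span k⟮z⟯ (Set.range b) = ⊤ := by
  rw [eq_top_iff]
  rintro f -
  obtain ⟨a, ha, c, hc, hc0, hac⟩ := P.frac f
  haveI : FiniteDimensional k⟮z⟯ (Submodule.span k⟮z⟯ (Set.range b)) :=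
    FiniteDimensional.span_of_finite _ (Set.finite_range b)
  let φ : Submodule.span k⟮z⟯ (Set.range b) →ₗ[k⟮z⟯] Submodule.span k⟮z⟯ (Set.range b) :=
    (LinearMap.mulRight k⟮z⟯ c).restrict (fun w hw => mul_mem_span P A hzB hz hd hzd hc hw)
  have hφ : Function.Injective φ := by
    intro x y hxy
    have h1 : (x : K) * c = y * c := congrArg Subtype.val hxy
    exact Subtype.ext (mul_right_cancel₀ hc0 h1)
  obtain ⟨w, hw⟩ := LinearMap.injective_iff_surjective.mp hφ ⟨1, mem_span_of_mem P A hzB hz hd hzd (one_mem B)⟩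
  have h1 : (w : K) * c = 1 := congrArg Subtype.val hw
  have h2 : f = w * a := by
    rw [← hac, mul_comm f c, ← mul_assoc, h1, one_mul]
  rw [h2]
  exact mul_mem_span P A hzB hz hd hzd ha w.2

theorem exists_coeff (f : K) : ∃ c : Fin d → k⟮z⟯, f = ∑ j, c j • b j := by
  have h1 : f ∈ Submodule.span k⟮z⟯ (Set.range b) := by
    rw [span_eq_top P A hzB hz hd hzd]; trivial
  obtain ⟨c, hc⟩ := (Submodule.mem_span_range_iff_exists_fun _).mp h1
  exact ⟨c, hc.symm⟩

theorem sum_mem_iff (c : Fin d → k⟮z⟯) :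
    ∑ j, (c j : K) * b j ∈ B ↔ ∀ j, (c j : K) ∈ Algebra.adjoin k {z} := by
  constructor
  · intro h j
    obtain ⟨p, hp⟩ := (mem_iff P A hzB hz hd hzd _).mp h
    have h1 : ∑ j, ((c j : K) - aeval z (p j)) * b j = 0 := by
      simp only [sub_mul, Finset.sum_sub_distrib, hp, sub_self]
    have h2 := eq_zero_of_sum A P.deg hz hd hzd (fun j => (c j : K) - aeval z (p j))
      (fun j => sub_mem (c j).2 (aeval_mem_field z _)) h1 j
    rw [sub_eq_zero.mp h2]
    exact aeval_mem_adjoin z _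
  · intro h
    refine sum_mem fun j _ => mul_mem ?_ (A.mem j)
    have h1 : Algebra.adjoin k {z} ≤ B := Algebra.adjoin_le (by simpa using hzB)
    exact h1 (h j)

/-- `B` is integral over `k[z]`. -/
theorem isIntegral0 {f : K} (hf : f ∈ B) : (Algebra.adjoin k {z}).toSubring.subtype.IsIntegralElem f := by
  classical
  have hle : Algebra.adjoin k {z} ≤ B := Algebra.adjoin_le (by simpa using hzB)
  let S : Subalgebra (Algebra.adjoin k {z}) K :=
    { B.toSubring with
      algebraMap_mem' := fun r => hle r.2 }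
  have hfg : S.toSubmodule.FG := by
    refine ⟨Finset.univ.image b, le_antisymm (Submodule.span_le.mpr ?_) ?_⟩
    · intro y hy
      simp only [Finset.coe_image, Finset.coe_univ, Set.image_univ] at hy
      obtain ⟨j, rfl⟩ := hy
      exact A.mem j
    · intro y hy
      obtain ⟨p, rfl⟩ := (mem_iff P A hzB hz hd hzd y).mp hy
      refine sum_mem fun j _ => ?_
      have : aeval z (p j) * b j = (⟨aeval z (p j), aeval_mem_adjoin z _⟩ : Algebra.adjoin k {z}) • b j := rfl
      rw [this]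
      exact Submodule.smul_mem _ _ (Submodule.subset_span (by simp))
  exact IsIntegral.of_mem_of_fg S hfg f hf

theorem mem_of_isIntegral0 {f : K} (hf : (Algebra.adjoin k {z}).toSubring.subtype.IsIntegralElem f) : f ∈ B := by
  refine P.int f (isIntegralElem_of_range_le _ _ ?_ hf)
  rw [Subring.range_subtype, Subring.range_subtype]
  exact Algebra.adjoin_le (by simpa using hzB)

omit hzB hzd in
theorem e_spec (j : Fin d) : s j ≤ d * ((s j + d - 1) / d) ∧ ∀ q : ℤ, (s j : ℤ) ≤ d * q →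
    (((s j + d - 1) / d : ℕ) : ℤ) ≤ q := by
  have h1 := Nat.div_add_mod (s j + d - 1) d
  have h2 := Nat.mod_lt (s j + d - 1) hd
  refine ⟨by omega, fun q hq => ?_⟩
  by_contra h
  push Not at h
  have h3 : (d : ℤ) * (q + 1) ≤ d * (((s j + d - 1) / d : ℕ) : ℤ) :=
    mul_le_mul_of_nonneg_left (by omega) (by omega)
  have h4 : ((d * ((s j + d - 1) / d) + (s j + d - 1) % d : ℕ) : ℤ) = ((s j + d - 1 : ℕ) : ℤ) := by rw [h1]
  push_cast at h4
  have h5 : ((s j + d - 1 : ℕ) : ℤ) = s j + d - 1 := by omega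
  rw [h5] at h4
  have h6 : (0 : ℤ) ≤ ((s j : ℤ) + d - 1) % d := Int.emod_nonneg _ (by omega)
  have h7 : (((s j + d - 1) / d : ℕ) : ℤ) = ((s j : ℤ) + d - 1) / d := by push_cast [← h5]; rfl
  nlinarith

omit A hd hzd in
/-- The ring of the other chart. -/
def infRing (hzB : z ∈ B) : Subalgebra k K where
  carrier := {f | (∃ n : ℕ, z ^ n * f ∈ B) ∧ f ∈ P.deg.Fil 0}
  mul_mem' := by
    rintro f g ⟨⟨n, hn⟩, hf⟩ ⟨⟨m, hm⟩, hg⟩
    refine ⟨⟨n + m, ?_⟩, ?_⟩
    · have : z ^ (n + m) * (f * g) = (z ^ n * f) * (z ^ m * g) := by ring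
      rw [this]
      exact mul_mem hn hm
    · have := P.deg.mul_mem_fil hf hg
      rwa [add_zero] at this
  add_mem' := by
    rintro f g ⟨⟨n, hn⟩, hf⟩ ⟨⟨m, hm⟩, hg⟩
    refine ⟨⟨n + m, ?_⟩, add_mem hf hg⟩
    have : z ^ (n + m) * (f + g) = z ^ m * (z ^ n * f) + z ^ n * (z ^ m * g) := by ring
    rw [this]
    exact add_mem (mul_mem (pow_mem hzB _) hn) (mul_mem (pow_mem hzB _) hm)
  algebraMap_mem' := by
    intro c
    refine ⟨⟨0, by rw [pow_zero, one_mul]; exact B.algebraMap_mem c⟩, ?_⟩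
    by_cases hc : c = 0
    · rw [hc, map_zero]; exact zero_mem _
    · exact P.deg.mem_fil_of_le (P.deg.const c hc).le

theorem inv_mem_infRing : z⁻¹ ∈ infRing P hzB := by
  refine ⟨⟨1, ?_⟩, ?_⟩
  · rw [pow_one, mul_inv_cancel₀ hz]; exact one_mem B
  · rw [P.deg.mem_fil_of_ne (inv_ne_zero hz), P.deg.inv hz, hzd]
    omega

theorem adjoin_inv_le : Algebra.adjoin k {z⁻¹} ≤ infRing P hzB :=
  Algebra.adjoin_le (by simpa using inv_mem_infRing P A hzB hz hd hzd)

theorem gen_mem_infRing (j : Fin d) : (z ^ ((s j + d - 1) / d))⁻¹ * b j ∈ infRing P hzB := by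
  refine ⟨⟨(s j + d - 1) / d, ?_⟩, ?_⟩
  · rw [mul_inv_cancel_left₀ (pow_ne_zero _ hz)]
    exact A.mem j
  · refine P.deg.mem_fil_of_le ?_
    rw [P.deg.mul _ _ (inv_ne_zero (pow_ne_zero _ hz)) (A.ne j), P.deg.inv (pow_ne_zero _ hz),
      P.deg.pow hz, hzd, A.deg]
    have h1 := (e_spec (s := s) P A hz hd j).1
    have h2 : (s j : ℤ) ≤ d * (((s j + d - 1) / d : ℕ) : ℤ) := by exact_mod_cast h1
    linarith [mul_comm (d : ℤ) (((s j + d - 1) / d : ℕ) : ℤ)]

theorem sum_mem_infRing_iff (c : Fin d → k⟮z⟯) :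
    ∑ j, (c j : K) * b j ∈ infRing P hzB ↔
      ∀ j, z ^ ((s j + d - 1) / d) * (c j : K) ∈ Algebra.adjoin k {z⁻¹} := by
  have hd' : (0 : ℤ) < d := by exact_mod_cast hd
  constructor
  · rintro ⟨⟨n, hn⟩, hf⟩ j
    have h1 : z ^ n * (c j : K) ∈ Algebra.adjoin k {z} := by
      have h2 := (sum_mem_iff P A hzB hz hd hzd
        (fun j => (AdjoinSimple.gen k z) ^ n * c j)).mp (by
          convert hn using 1
          rw [Finset.mul_sum]
          refine Finset.sum_congr rfl fun j _ => ?_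
          push_cast
          rw [AdjoinSimple.coe_gen]
          ring) j
      push_cast at h2
      rwa [AdjoinSimple.coe_gen] at h2
    have h3 := mem_fil_of_sum A P.deg hz hd hzd (fun j => (c j : K)) (fun j => (c j).2) 0 hf j
    by_cases hc : (c j : K) = 0
    · rw [hc, mul_zero]; exact zero_mem _
    rw [P.deg.mem_fil_of_ne (mul_ne_zero hc (A.ne j)), P.deg.mul _ _ hc (A.ne j), A.deg] at h3
    obtain ⟨q, hq⟩ := P.deg.dvd_of_mem_adjoin hz hd' hzd (c j).2 hc
    have h4 := (e_spec (s := s) P A hz hd j).2 (-q) (by rw [hq] at h3; linarith)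
    refine P.deg.mem_adjoin_inv hz hd' hzd (N := n) ?_ ?_
    · have h5 : z ^ n * (z ^ ((s j + d - 1) / d) * (c j : K)) = z ^ ((s j + d - 1) / d) * (z ^ n * (c j : K)) := by
        ring
      rw [h5]
      have hzm : z ∈ Algebra.adjoin k {z} := Algebra.subset_adjoin (Set.mem_singleton z)
      exact mul_mem (pow_mem hzm _) h1
    · refine P.deg.mem_fil_of_le ?_
      rw [P.deg.mul _ _ (pow_ne_zero _ hz) hc, P.deg.pow hz, hzd, hq]
      nlinarith
  · intro h
    refine sum_mem fun j _ => ?_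
    have h1 : (c j : K) * b j = (z ^ ((s j + d - 1) / d) * (c j : K)) *
        ((z ^ ((s j + d - 1) / d))⁻¹ * b j) := by
      rw [mul_comm (z ^ ((s j + d - 1) / d)) (c j : K), mul_assoc,
        mul_inv_cancel_left₀ (pow_ne_zero _ hz)]
    rw [h1]
    exact mul_mem (adjoin_inv_le P A hzB hz hd hzd (h j)) (gen_mem_infRing P A hzB hz hd hzd j)

theorem isIntegral1 {f : K} (hf : f ∈ infRing P hzB) :
    (Algebra.adjoin k {z⁻¹}).toSubring.subtype.IsIntegralElem f := by
  classical
  have hle := adjoin_inv_le P A hzB hz hd hzd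
  let S : Subalgebra (Algebra.adjoin k {z⁻¹}) K :=
    { (infRing P hzB).toSubring with
      algebraMap_mem' := fun r => hle r.2 }
  have hfg : S.toSubmodule.FG := by
    refine ⟨Finset.univ.image (fun j => (z ^ ((s j + d - 1) / d))⁻¹ * b j),
      le_antisymm (Submodule.span_le.mpr ?_) ?_⟩
    · intro y hy
      simp only [Finset.coe_image, Finset.coe_univ, Set.image_univ] at hy
      obtain ⟨j, rfl⟩ := hy
      exact gen_mem_infRing P A hzB hz hd hzd j
    · intro y hy
      obtain ⟨c, rfl⟩ := exists_coeff P A hzB hz hd hzd y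
      have hy' : ∑ j, (c j : K) * b j ∈ infRing P hzB := hy
      have hc := (sum_mem_infRing_iff P A hzB hz hd hzd c).mp hy'
      refine sum_mem fun j _ => ?_
      have h1 : c j • b j = (⟨z ^ ((s j + d - 1) / d) * (c j : K), hc j⟩ : Algebra.adjoin k {z⁻¹}) •
          ((z ^ ((s j + d - 1) / d))⁻¹ * b j) := by
        change (c j : K) * b j = (z ^ ((s j + d - 1) / d) * (c j : K)) *
          ((z ^ ((s j + d - 1) / d))⁻¹ * b j)
        rw [mul_comm (z ^ ((s j + d - 1) / d)) (c j : K), mul_assoc,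
          mul_inv_cancel_left₀ (pow_ne_zero _ hz)]
      rw [h1]
      exact Submodule.smul_mem _ _ (Submodule.subset_span (by simp))
  exact IsIntegral.of_mem_of_fg S hfg f hf

theorem mem_infRing_of_isIntegral {f : K}
    (hf : (Algebra.adjoin k {z⁻¹}).toSubring.subtype.IsIntegralElem f) : f ∈ infRing P hzB := by
  refine ⟨?_, ?_⟩
  · have h1 : (Algebra.adjoin k {z, z⁻¹}).toSubring.subtype.IsIntegralElem f := by
      refine isIntegralElem_of_range_le _ _ ?_ hf
      rw [Subring.range_subtype, Subring.range_subtype]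
      exact Algebra.adjoin_mono (by simp)
    obtain ⟨m, hm⟩ := exists_pow_mul hz h1
    exact ⟨m, mem_of_isIntegral0 P A hzB hz hd hzd hm⟩
  · by_cases hf0 : f = 0
    · rw [hf0]; exact zero_mem _
    rw [P.deg.mem_fil_of_ne hf0]
    by_contra hlt
    push Not at hlt
    obtain ⟨p, hp, hpf⟩ := hf
    have hle := adjoin_inv_le P A hzB hz hd hzd
    rw [eval₂_eq_sum_range, Finset.sum_range_succ, hp.coeff_natDegree, map_one, one_mul] at hpf
    have h1 : ∑ i ∈ Finset.range p.natDegree,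
        (Algebra.adjoin k {z⁻¹}).toSubring.subtype (p.coeff i) * f ^ i ∈
          P.deg.Fil ((p.natDegree - 1 : ℤ) * D f) := by
      refine sum_mem fun i hi => ?_
      rw [Finset.mem_range] at hi
      have h2 : (p.coeff i : K) ∈ P.deg.Fil 0 := (hle (p.coeff i).2).2
      have h3 : f ^ i ∈ P.deg.Fil (i * D f) := P.deg.mem_fil_of_le (P.deg.pow hf0 i).le
      refine P.deg.fil_mono ?_ (P.deg.mul_mem_fil h2 h3)
      rw [zero_add]
      exact mul_le_mul_of_nonneg_right (by omega) hlt.le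
    have h2 : f ^ p.natDegree ∈ P.deg.Fil ((p.natDegree - 1 : ℤ) * D f) := by
      rw [add_eq_zero_iff_eq_neg'] at hpf
      rw [hpf]
      exact neg_mem h1
    rw [P.deg.mem_fil_of_ne (pow_ne_zero _ hf0), P.deg.pow hf0] at h2
    nlinarith

/-- **The Apéry basis.** -/
theorem isBasisData : IsBasisData k (AdjoinSimple.gen k z) b (fun j => (s j + d - 1) / d) where
  ht := by
    have h1 := P.deg.transcendental hz (by exact_mod_cast hd) hzd
    have h2 : algebraMap k⟮z⟯ K (AdjoinSimple.gen k z) = z := AdjoinSimple.algebraMap_gen k z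
    rw [← h2] at h1
    exact (transcendental_algebraMap_iff (algebraMap k⟮z⟯ K).injective).mp h1
  hB := by
    rw [Fintype.linearIndependent_iff]
    intro c hc j
    have := eq_zero_of_sum A P.deg hz hd hzd (fun j => (c j : K)) (fun j => (c j).2) hc j
    exact_mod_cast this
  hspan := exists_coeff P A hzB hz hd hzd
  h0 c := by
    rw [AdjoinSimple.algebraMap_gen]
    have h1 : ∑ j, c j • b j = ∑ j, (c j : K) * b j := rfl
    rw [h1]
    constructor
    · intro h j
      rw [coe_mem_adjoin_iff, AdjoinSimple.coe_gen]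
      exact (sum_mem_iff P A hzB hz hd hzd c).mp (mem_of_isIntegral0 P A hzB hz hd hzd h) j
    · intro h
      refine isIntegral0 P A hzB hz hd hzd ((sum_mem_iff P A hzB hz hd hzd c).mpr fun j => ?_)
      have := h j
      rwa [coe_mem_adjoin_iff, AdjoinSimple.coe_gen] at this
  h1 c := by
    rw [AdjoinSimple.algebraMap_gen]
    have h1 : ∑ j, c j • b j = ∑ j, (c j : K) * b j := rfl
    rw [h1]
    have h2 : ∀ j, ((AdjoinSimple.gen k z ^ ((s j + d - 1) / d) * c j : k⟮z⟯) : K) =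
        z ^ ((s j + d - 1) / d) * (c j : K) := by
      intro j
      push_cast
      rw [AdjoinSimple.coe_gen]
    have h3 : (((AdjoinSimple.gen k z)⁻¹ : k⟮z⟯) : K) = z⁻¹ := by
      push_cast
      rw [AdjoinSimple.coe_gen]
    constructor
    · intro h j
      rw [coe_mem_adjoin_iff, h2, h3]
      exact (sum_mem_infRing_iff P A hzB hz hd hzd c).mp (mem_infRing_of_isIntegral P A hzB hz hd hzd h) j
    · intro h
      refine isIntegral1 P A hzB hz hd hzd ((sum_mem_infRing_iff P A hzB hz hd hzd c).mpr fun j => ?_)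
      have := h j
      rwa [coe_mem_adjoin_iff, h2, h3] at this

omit P in
/-- The number of gaps. -/
theorem sum_e (H : IsDeg k D) : ∑ j, ((s j + d - 1) / d - 1) = Nat.card (gapSet D B) := by
  have h0 : ∀ j, (s j + d - 1) / d - 1 = s j / d := by
    intro j
    have h1 := A.mod j
    have h2 := Nat.div_add_mod (s j) d
    rw [h1] at h2
    have h3 : s j + d - 1 = d * (s j / d) + (j + d - 1) := by omega
    rw [h3, Nat.mul_add_div hd]
    by_cases hj : (j : ℕ) = 0
    · have h4 := A.min j 1 (one_mem B) one_ne_zero 0 (by rw [H.one]; rfl) (by simp [hj])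
      have h5 : s j / d = 0 := by
        have : s j = 0 := by omega
        rw [this, Nat.zero_div]
      have h6 : ((j : ℕ) + d - 1) / d = 0 := Nat.div_eq_of_lt (by omega)
      rw [h5, h6]
    · have h6 : ((j : ℕ) + d - 1) / d = 1 := by
        rw [show (j : ℕ) + d - 1 = ((j : ℕ) - 1) + d by omega, Nat.add_div_right _ hd,
          Nat.div_eq_of_lt (by omega)]
      rw [h6, Nat.add_sub_cancel]
  simp only [h0]
  have E : gapSet D B ≃ (Σ j : Fin d, Fin (s j / d)) :=
    { toFun := fun n => ⟨⟨n.1 % d, Nat.mod_lt _ hd⟩, ⟨n.1 / d, by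
        have h1 : ¬ s ⟨n.1 % d, Nat.mod_lt _ hd⟩ ≤ n.1 := fun h =>
          (notMem_gapSet_iff A H hz hd hzd hzB n.1).mpr h n.2
        have h2 := A.mod ⟨n.1 % d, Nat.mod_lt _ hd⟩
        simp only at h2
        have h3 := Nat.div_add_mod n.1 d
        have h4 := Nat.div_add_mod (s ⟨n.1 % d, Nat.mod_lt _ hd⟩) d
        rw [h2] at h4
        by_contra h5
        push Not at h5
        have := Nat.mul_le_mul_left d h5
        omega⟩⟩
      invFun := fun x => ⟨d * x.2.1 + x.1.1, by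
        by_contra h
        have h1 := (notMem_gapSet_iff A H hz hd hzd hzB _).mp h
        have h2 : (⟨(d * x.2.1 + x.1.1) % d, Nat.mod_lt _ hd⟩ : Fin d) = x.1 :=
          Fin.ext (by simp [Nat.mod_eq_of_lt x.1.2])
        rw [h2] at h1
        have h3 := A.mod x.1
        have h4 := Nat.div_add_mod (s x.1) d
        rw [h3] at h4
        have h5 := Nat.mul_le_mul_left d (show x.2.1 + 1 ≤ s x.1 / d from x.2.2)
        have h6 := x.1.2
        rw [mul_add, mul_one] at h5
        omega⟩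
      left_inv := fun n => Subtype.ext (Nat.div_add_mod n.1 d)
      right_inv := fun x => by
        have h2 : (⟨(d * x.2.1 + x.1.1) % d, Nat.mod_lt _ hd⟩ : Fin d) = x.1 :=
          Fin.ext (by simp [Nat.mod_eq_of_lt x.1.2])
        have h3 : (d * x.2.1 + x.1.1) / d = x.2.1 := by
          rw [Nat.mul_add_div hd, Nat.div_eq_of_lt x.1.2, add_zero]
        refine Sigma.ext h2 ?_
        refine (Fin.heq_ext_iff (congrArg (fun i => s i / d) h2)).mpr ?_
        exact h3 }
  rw [Nat.card_congr E, Nat.card_eq_fintype_card, Fintype.card_sigma]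
  simp

end Main

open CategoryTheory AlgebraicGeometry in
/-- **The cover attached to an element of a one-place curve**, with genus the number of gaps. -/
theorem IsOnePlace.exists_cover {k K : Type u} [Field k] [IsAlgClosed k] [Field K] [Algebra k K]
    [Algebra.EssFiniteType k K] (htr : Algebra.trdeg k K = 1) {D : K → ℤ} {B : Subalgebra k K}
    (P : IsOnePlace k D B) {z : K} (hzB : z ∈ B) (hz : z ≠ 0) {d : ℕ} (hd : 0 < d) (hzd : D z = d) :
    ∃ (X : Scheme.{u}) (ν : X ⟶ CohB1.ProjSpace 1 k), Mor2.IsFinLocFreeOfDeg d ν ∧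
      Curve.IsSmoothProperCurve k X (ν ≫ CohB1.ProjSpace.toSpec 1 k) ∧
      @Curv2.genus k _ X ⟨ν ≫ CohB1.ProjSpace.toSpec 1 k⟩ = Nat.card (gapSet D B) := by
  obtain ⟨b, s, A⟩ := exists_apery P.gaps hd
  obtain ⟨X, ν, h1, h2, h3⟩ := (isBasisData P A hzB hz hd hzd).exists_cover htr
  refine ⟨X, ν, h1, h2, ?_⟩
  rw [h3]
  exact sum_e A hzB hz hd hzd P.deg

end K310.OnePlace
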