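import Groth.Agent.Curves.K310.SepData

/-!
# The integral closure of `k[x]` for a curve with separated variables
-/

set_option autoImplicit false
set_option linter.style.haveILetI false

open Polynomial

namespace K310.SepData

open DegFun ValTools SepDeg

namespace Sep

variable {k : Type*} [Field k] (S : Sep k)

/-- The monic polynomials in `y`. -/
noncomputable def bet (j : ℕ) : k[X] := if j < S.e then X ^ j else S.u1 * X ^ (j - S.e)

/-- The exponents of the denominators. -/
def nn (j : ℕ) (l : Fin S.r) : ℕ := (S.a l * (j - S.e)) / S.c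

/-- The denominators. -/
noncomputable def om (j : ℕ) : k[X] := ∏ l, (X - C (S.ξ l)) ^ S.nn j l

/-- The complementary denominators. -/
noncomputable def om' (j : ℕ) : k[X] := ∏ l, (X - C (S.ξ l)) ^ (S.a l - S.nn j l)

theorem bet_of_lt {j : ℕ} (h : j < S.e) : S.bet j = X ^ j := if_pos h

theorem bet_of_le {j : ℕ} (h : S.e ≤ j) : S.bet j = S.u1 * X ^ (j - S.e) := if_neg (not_lt.mpr h)

theorem bet_monic (j : ℕ) : (S.bet j).Monic := by
  unfold bet
  split_ifs
  · exact monic_X_pow _
  · exact S.u1_monic.mul (monic_X_pow _)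

theorem bet_natDegree (j : ℕ) : (S.bet j).natDegree = j := by
  unfold bet
  split_ifs with h
  · exact natDegree_X_pow _
  · rw [S.u1_monic.natDegree_mul (monic_X_pow _), natDegree_X_pow, u1_natDegree]
    omega

theorem om_of_le {j : ℕ} (h : j ≤ S.e) : S.om j = 1 := by
  unfold om nn
  refine Finset.prod_eq_one fun l _ => ?_
  rw [Nat.sub_eq_zero_of_le h, mul_zero, Nat.zero_div, pow_zero]

theorem om_ne_zero (j : ℕ) : S.om j ≠ 0 :=
  Finset.prod_ne_zero_iff.mpr fun _ _ => pow_ne_zero _ (X_sub_C_ne_zero _)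

variable {S}

theorem Good.nn_lt (G : S.Good) {j : ℕ} (hj : j < S.d) (l : Fin S.r) : S.nn j l < S.a l := by
  unfold nn
  refine Nat.div_lt_of_lt_mul ?_
  rw [mul_comm]
  refine Nat.mul_lt_mul_of_pos_right ?_ (G.apos l)
  have := G.hc
  unfold d at hj
  omega

theorem Good.om_mul (G : S.Good) {j : ℕ} (hj : j < S.d) : S.om j * S.om' j = S.w := by
  unfold om om' w
  rw [← Finset.prod_mul_distrib]
  refine Finset.prod_congr rfl fun l _ => ?_
  rw [← pow_add, Nat.add_sub_cancel' (G.nn_lt hj l).le]

theorem bet_indep {n : ℕ} (c : Fin n → k) (h : ∑ j : Fin n, C (c j) * S.bet j = 0) : ∀ j, c j = 0 := by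
  classical
  by_contra hcon
  push Not at hcon
  obtain ⟨j0, hj0⟩ := hcon
  obtain ⟨j, hj, hmax⟩ := Finset.exists_max_image (Finset.univ.filter (fun j => c j ≠ 0)) (fun j : Fin n => (j : ℕ))
    ⟨j0, by simpa using hj0⟩
  rw [Finset.mem_filter] at hj
  have h1 := congrArg (fun p => coeff p j) h
  simp only [finsetSum_coeff, coeff_C_mul, coeff_zero] at h1
  rw [Finset.sum_eq_single j] at h1
  · have h2 : (S.bet j).coeff j = 1 := by
      have := (S.bet_monic j).coeff_natDegree
      rwa [bet_natDegree] at this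
    rw [h2, mul_one] at h1
    exact hj.2 h1
  · intro i _ hij
    by_cases hci : c i = 0
    · rw [hci, zero_mul]
    have h2 := hmax i (by simpa using hci)
    have h3 : (i : ℕ) ≠ j := fun h => hij (Fin.ext h)
    rw [coeff_eq_zero_of_natDegree_lt, mul_zero]
    rw [bet_natDegree]
    omega
  · simp

end Sep

variable {k K : Type*} [Field k] [Field K] [Algebra k K] {S : Sep k} (G : S.Good) {x y : K} (M : S.Model x y)

include M in
theorem Sep.Model.aeval_ne_zero {p : k[X]} (hp : p ≠ 0) : aeval x p ≠ 0 := fun h => M.tr ⟨p, hp, h⟩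

theorem isIntegral_aeval (x : K) (p : k[X]) : IsIntegral (Algebra.adjoin k {x}) (aeval x p) := by
  have h1 : aeval x p ∈ Algebra.adjoin k {x} := by
    rw [Algebra.adjoin_singleton_eq_range_aeval]
    exact ⟨p, rfl⟩
  exact isIntegral_algebraMap (R := Algebra.adjoin k {x}) (A := K) (x := ⟨_, h1⟩)

section Crit

variable [IsAlgClosed k]

include G M in
/-- Normality at a point `x0` which is not a root of `w`. -/
theorem Sep.Model.noncrit {x0 : k} (hx0 : S.w.eval x0 ≠ 0) (γ : Fin S.d → k[X]) {f : K}
    (hf : IsIntegral (Algebra.adjoin k {x}) f)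
    (h : ∑ j, aeval x (γ j) * aeval y (S.bet j) = (x - algebraMap k K x0) * f) :
    ∀ j, (γ j).eval x0 = 0 := by
  classical
  have hd := G.hd
  set g : k[X] := ∑ j : Fin S.d, C ((γ j).eval x0) * S.bet j with hg
  suffices hg0 : g = 0 from Sep.bet_indep _ hg0
  by_contra hg0
  set U : k[X] := S.u - C (S.lam * S.w.eval x0) with hU
  have hUdeg : U.natDegree = S.d := by rw [hU, natDegree_sub_C, S.u_natDegree]
  have hU0 : U ≠ 0 := fun h0 => by
    rw [h0, natDegree_zero] at hUdeg
    omega
  have hgdeg : g.natDegree < S.d := by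
    have : g.natDegree ≤ S.d - 1 := by
      refine natDegree_sum_le_of_forall_le _ _ fun j _ => ?_
      refine (natDegree_C_mul_le _ _).trans ?_
      rw [Sep.bet_natDegree]
      have := j.2
      omega
    omega
  have key : ∀ y0 : k, U.rootMultiplicity y0 ≤ g.rootMultiplicity y0 := by
    intro y0
    by_contra hlt
    push Not at hlt
    have hroot : U.IsRoot y0 := (rootMultiplicity_pos hU0).mp (by omega)
    have hu : S.u.eval y0 = S.lam * S.w.eval x0 := by
      have h1 : U.eval y0 = 0 := hroot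
      rw [hU, eval_sub, eval_C, sub_eq_zero] at h1
      exact h1
    obtain ⟨V, ht, hx, hy, hint⟩ := M.exists_place G hu
    set v := V.valuation with hv
    have hy1 : v y ≤ 1 := le_of_sub ht hy.le
    -- size of `g(y)`
    have h1 : v (aeval y g) ≤ v (x - algebraMap k K x0) := by
      have h2 : aeval y g = (x - algebraMap k K x0) * f -
          ∑ j, (aeval x (γ j) - algebraMap k K ((γ j).eval x0)) * aeval y (S.bet j) := by
        rw [← h, ← Finset.sum_sub_distrib, hg, map_sum]
        refine Finset.sum_congr rfl fun j _ => ?_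
        rw [map_mul, aeval_C]
        ring
      rw [h2]
      refine v.map_sub_le ?_ (v.map_sum_le fun j _ => ?_)
      · rw [map_mul]
        exact mul_le_of_le_one_right' (hint f hf)
      · rw [map_mul]
        exact (mul_le_of_le_one_right' (poly_le ht hy1 _)).trans (sub_const_lt ht hx _)
    rw [poly_root ht hy hg0] at h1
    -- the equation
    set W : k[X] := S.w - C (S.w.eval x0) with hW
    have hWdeg : W.natDegree = S.m := by rw [hW, natDegree_sub_C, S.w_natDegree]
    have hW0 : W ≠ 0 := fun h0 => by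
      rw [h0, natDegree_zero] at hWdeg
      have := G.hm
      omega
    have h2 : aeval y U = algebraMap k K S.lam * aeval x W := by
      rw [hU, hW, map_sub, map_sub, M.eq, aeval_C, aeval_C, map_mul]
      ring
    have h3 := congrArg v h2
    rw [map_mul, ht _ G.lam0, one_mul, poly_root ht hy hU0, poly_root ht hx hW0] at h3
    have hWroot : 0 < W.rootMultiplicity x0 := (rootMultiplicity_pos hW0).mpr (by simp [hW])
    rcases G.gen x0 y0 hx0 hu with hder | hder
    · have h4 : U.rootMultiplicity y0 = 1 := by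
        have h5 : ¬ 1 < U.rootMultiplicity y0 := fun h6 => by
          have h7 := ((one_lt_rootMultiplicity_iff_isRoot hU0).mp h6).2
          rw [hU, derivative_sub, derivative_C, sub_zero] at h7
          exact hder h7
        have h6 := (rootMultiplicity_pos hU0).mpr hroot
        omega
      have h5 : g.rootMultiplicity y0 = 0 := by omega
      rw [h5, pow_zero] at h1
      exact absurd hx (not_lt.mpr h1)
    · have h4 : W.rootMultiplicity x0 = 1 := by
        have h5 : ¬ 1 < W.rootMultiplicity x0 := fun h6 => by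
          have h7 := ((one_lt_rootMultiplicity_iff_isRoot hW0).mp h6).2
          rw [hW, derivative_sub, derivative_C, sub_zero] at h7
          exact hder h7
        omega
      rw [h4, pow_one] at h3
      rw [← h3] at h1
      have hvx : v (x - algebraMap k K x0) ≠ 0 := by
        rw [v.ne_zero_iff]
        intro h0
        refine M.tr ?_
        rw [sub_eq_zero.mp h0]
        exact isAlgebraic_algebraMap x0
      have hvy : v (y - algebraMap k K y0) ≠ 0 := by
        intro h0
        rw [h0, zero_pow (by omega)] at h3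
        exact hvx h3.symm
      have h5 : v (y - algebraMap k K y0) ^ U.rootMultiplicity y0 <
          v (y - algebraMap k K y0) ^ g.rootMultiplicity y0 :=
        pow_lt_pow_right_of_lt_one₀ (zero_lt_iff.mpr hvy) hy hlt
      exact absurd h5 (not_lt.mpr h1)
  have h1 : U.roots ≤ g.roots := by
    rw [Multiset.le_iff_count]
    intro a
    rw [count_roots, count_roots]
    exact key a
  have h2 := Multiset.card_le_card h1
  have h3 := (IsAlgClosed.splits U).natDegree_eq_card_roots
  have h4 := card_roots' g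
  omega

/-- The elements of the integral basis. -/
noncomputable def bb (S : Sep k) (x y : K) (j : ℕ) : K := aeval y (S.bet j) / aeval x (S.om j)

omit [IsAlgClosed k] in
theorem bb_of_lt {j : ℕ} (h : j < S.e) : bb S x y j = y ^ j := by
  rw [bb, S.om_of_le h.le, S.bet_of_lt h]
  simp

include M in
omit [IsAlgClosed k] in
theorem Sep.Model.om_mul_bb (j : ℕ) : aeval x (S.om j) * bb S x y j = aeval y (S.bet j) :=
  mul_div_cancel₀ _ (M.aeval_ne_zero (S.om_ne_zero j))

include G M in
omit [IsAlgClosed k] in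
theorem Sep.Model.w_mul_bb {j : ℕ} (hj : j < S.d) :
    aeval x S.w * bb S x y j = aeval x (S.om' j) * aeval y (S.bet j) := by
  rw [← G.om_mul hj, map_mul, mul_comm (aeval x (S.om j)), mul_assoc, M.om_mul_bb]

include G M in
/-- The coefficients at a point which is not a root of `w`. -/
theorem Sep.Model.coeff_noncrit {x0 : k} (hx0 : S.w.eval x0 ≠ 0) (α : Fin S.d → k[X]) {f : K}
    (hf : IsIntegral (Algebra.adjoin k {x}) f)
    (h : ∑ j : Fin S.d, aeval x (α j) * bb S x y j = (x - algebraMap k K x0) * f) :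
    ∀ j, (α j).eval x0 = 0 := by
  intro j
  have h1 := M.noncrit G hx0 (fun j => α j * S.om' j) (f := aeval x S.w * f)
    ((isIntegral_aeval x S.w).mul hf) (by
      have h2 := congrArg (fun z => aeval x S.w * z) h
      simp only [Finset.mul_sum] at h2
      rw [mul_left_comm (x - algebraMap k K x0), ← h2]
      refine Finset.sum_congr rfl fun j _ => ?_
      rw [mul_left_comm (aeval x S.w), M.w_mul_bb G j.2, map_mul, mul_assoc]) j
  simp only [eval_mul, mul_eq_zero] at h1
  refine h1.resolve_right fun h2 => hx0 ?_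
  rw [← G.om_mul j.2, eval_mul, h2, mul_zero]

omit [IsAlgClosed k] in
include G in
theorem Sep.Good.rootMultiplicity_w (l : Fin S.r) : S.w.rootMultiplicity (S.ξ l) = S.a l := by
  classical
  have h1 : S.w = (X - C (S.ξ l)) ^ S.a l * ∏ i ∈ Finset.univ.erase l, (X - C (S.ξ i)) ^ S.a i :=
    (Finset.mul_prod_erase _ _ (Finset.mem_univ l)).symm
  have h2 : ¬ (∏ i ∈ Finset.univ.erase l, (X - C (S.ξ i)) ^ S.a i).IsRoot (S.ξ l) := by
    intro h
    have h3 : eval (S.ξ l) (∏ i ∈ Finset.univ.erase l, (X - C (S.ξ i)) ^ S.a i) = 0 := h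
    rw [eval_prod, Finset.prod_eq_zero_iff] at h3
    obtain ⟨i, hi, h4⟩ := h3
    rw [eval_pow, eval_sub, eval_X, eval_C] at h4
    have h5 := eq_zero_of_pow_eq_zero h4
    exact (Finset.mem_erase.mp hi).1 (G.ξinj (sub_eq_zero.mp h5).symm)
  have h3 : (∏ i ∈ Finset.univ.erase l, (X - C (S.ξ i)) ^ S.a i) ≠ 0 := by
    intro h
    rw [h] at h2
    exact h2 (by simp [IsRoot])
  rw [h1, rootMultiplicity_mul (mul_ne_zero (pow_ne_zero _ (X_sub_C_ne_zero _)) h3),
    rootMultiplicity_X_sub_C_pow, rootMultiplicity_eq_zero h2, add_zero]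

omit [IsAlgClosed k] in
include G in
theorem Sep.Good.rootMultiplicity_om (j : ℕ) (l : Fin S.r) : (S.om j).rootMultiplicity (S.ξ l) = S.nn j l := by
  classical
  have h1 : S.om j = (X - C (S.ξ l)) ^ S.nn j l * ∏ i ∈ Finset.univ.erase l, (X - C (S.ξ i)) ^ S.nn j i :=
    (Finset.mul_prod_erase _ _ (Finset.mem_univ l)).symm
  have h2 : ¬ (∏ i ∈ Finset.univ.erase l, (X - C (S.ξ i)) ^ S.nn j i).IsRoot (S.ξ l) := by
    intro h
    have h3 : eval (S.ξ l) (∏ i ∈ Finset.univ.erase l, (X - C (S.ξ i)) ^ S.nn j i) = 0 := h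
    rw [eval_prod, Finset.prod_eq_zero_iff] at h3
    obtain ⟨i, hi, h4⟩ := h3
    rw [eval_pow, eval_sub, eval_X, eval_C] at h4
    have h5 := eq_zero_of_pow_eq_zero h4
    exact (Finset.mem_erase.mp hi).1 (G.ξinj (sub_eq_zero.mp h5).symm)
  have h3 : (∏ i ∈ Finset.univ.erase l, (X - C (S.ξ i)) ^ S.nn j i) ≠ 0 := by
    intro h
    rw [h] at h2
    exact h2 (by simp [IsRoot])
  rw [h1, rootMultiplicity_mul (mul_ne_zero (pow_ne_zero _ (X_sub_C_ne_zero _)) h3),
    rootMultiplicity_X_sub_C_pow, rootMultiplicity_eq_zero h2, add_zero]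

include G M in
omit [IsAlgClosed k] in
/-- The coefficients `αⱼ`, `j < e`, at a root of `w`. -/
theorem Sep.Model.coeff_crit_lt (l : Fin S.r) (α : Fin S.d → k[X]) {f : K}
    (hf : IsIntegral (Algebra.adjoin k {x}) f)
    (h : ∑ j : Fin S.d, aeval x (α j) * bb S x y j = (x - algebraMap k K (S.ξ l)) * f) :
    ∀ j : Fin S.d, (j : ℕ) < S.e → (α j).eval (S.ξ l) = 0 := by
  classical
  have hed : S.e ≤ S.d := Nat.le_add_right _ _
  have hw0 : S.w.eval (S.ξ l) = 0 := by
    have := (rootMultiplicity_pos S.w_monic.ne_zero).mp (by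
      rw [G.rootMultiplicity_w l]; exact G.apos l)
    exact this
  set g : k[X] := ∑ j : Fin S.e, C ((α (Fin.castLE hed j)).eval (S.ξ l)) * X ^ (j : ℕ) with hg
  have hgdeg : g.natDegree ≤ S.e - 1 := by
    refine natDegree_sum_le_of_forall_le _ _ fun j _ => ?_
    refine (natDegree_C_mul_X_pow_le _ _).trans ?_
    have := j.2
    omega
  have hgroot : ∀ i, g.eval (S.η i) = 0 := by
    intro i
    have hu : S.u.eval (S.η i) = S.lam * S.w.eval (S.ξ l) := by
      rw [hw0, mul_zero, Sep.u, eval_mul, Sep.u1, eval_prod, Finset.prod_eq_zero (Finset.mem_univ i) (by simp),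
        zero_mul]
    obtain ⟨V, ht, hx, hy, hint⟩ := M.exists_place G hu
    set v := V.valuation with hv
    have hy1 : v y ≤ 1 := le_of_sub ht hy.le
    rw [← poly_lt_iff ht hy]
    have hvx : v (x - algebraMap k K (S.ξ l)) ≠ 0 := by
      rw [v.ne_zero_iff]
      intro h0
      refine M.tr ?_
      rw [sub_eq_zero.mp h0]
      exact isAlgebraic_algebraMap _
    -- `v (u1 y)`
    have hvy : v y = 1 := by
      have := poly_unit ht hy (p := X) (by rw [eval_X]; exact G.ηne i)
      rwa [aeval_X] at this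
    have hu1 : v (aeval y S.u1) = v (x - algebraMap k K (S.ξ l)) ^ S.a l := by
      have h1 := congrArg v M.eq
      rw [map_mul, ht _ G.lam0, one_mul, poly_root ht hx S.w_monic.ne_zero, G.rootMultiplicity_w, Sep.u, map_mul,
        map_mul, map_pow, aeval_X, map_pow, hvy, one_pow, mul_one] at h1
      exact h1
    -- the other terms
    have hbig : ∀ j : Fin S.d, S.e ≤ (j : ℕ) → v (bb S x y j) ≤ v (x - algebraMap k K (S.ξ l)) := by
      intro j hj
      have h1 : v (aeval y (S.bet j)) = v (x - algebraMap k K (S.ξ l)) ^ S.a l := by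
        rw [S.bet_of_le hj, map_mul, map_mul, hu1, map_pow, aeval_X, map_pow, hvy, one_pow, mul_one]
      rw [bb, map_div₀, h1, poly_root ht hx (S.om_ne_zero _), G.rootMultiplicity_om]
      have h2 := G.nn_lt j.2 l
      rw [show S.a l = (S.a l - S.nn j l - 1) + 1 + S.nn j l by omega, pow_add, mul_div_cancel_right₀ _
        (pow_ne_zero _ hvx), pow_succ]
      exact mul_le_of_le_one_left' (pow_le_one' hx.le _)
    -- `g(y)`
    have h1 : aeval y g = (x - algebraMap k K (S.ξ l)) * f -
        (∑ j ∈ Finset.univ.filter (fun j : Fin S.d => ¬ (j : ℕ) < S.e), aeval x (α j) * bb S x y j) -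
        ∑ j : Fin S.e, (aeval x (α (Fin.castLE hed j)) -
          algebraMap k K ((α (Fin.castLE hed j)).eval (S.ξ l))) * y ^ (j : ℕ) := by
      rw [← h, ← Finset.sum_filter_add_sum_filter_not Finset.univ (fun j : Fin S.d => (j : ℕ) < S.e),
        add_sub_cancel_right]
      have h2 : ∑ j ∈ Finset.univ.filter (fun j : Fin S.d => (j : ℕ) < S.e), aeval x (α j) * bb S x y j =
          ∑ j : Fin S.e, aeval x (α (Fin.castLE hed j)) * y ^ (j : ℕ) := by
        symm
        refine Finset.sum_bij (fun j _ => Fin.castLE hed j) ?_ ?_ ?_ ?_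
        · intro j _; simp
        · intro i _ j _ hij; exact Fin.castLE_injective hed hij
        · intro j hj
          rw [Finset.mem_filter] at hj
          exact ⟨⟨j, hj.2⟩, Finset.mem_univ _, rfl⟩
        · intro j _
          rw [bb_of_lt (by simp)]
          rfl
      rw [h2, ← Finset.sum_sub_distrib, hg, map_sum]
      refine Finset.sum_congr rfl fun j _ => ?_
      rw [map_mul, aeval_C, map_pow, aeval_X]
      ring
    rw [h1]
    refine lt_of_le_of_lt ?_ hx
    refine v.map_sub_le (v.map_sub_le ?_ (v.map_sum_le fun j hj => ?_)) (v.map_sum_le fun j _ => ?_)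
    · rw [map_mul]
      exact mul_le_of_le_one_right' (hint f hf)
    · rw [Finset.mem_filter] at hj
      rw [map_mul]
      exact (mul_le_of_le_one_left' (poly_le ht (le_of_sub ht hx.le) _)).trans (hbig j (not_lt.mp hj.2))
    · rw [map_mul]
      refine (mul_le_of_le_one_right' ?_).trans (sub_const_lt ht hx _)
      rw [map_pow]
      exact pow_le_one' hy1 _
  have hg0 : g = 0 := by
    by_cases he : S.e = 0
    · have : IsEmpty (Fin S.e) := by rw [he]; infer_instance
      rw [hg, Finset.univ_eq_empty, Finset.sum_empty]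
    refine eq_zero_of_natDegree_lt_card_of_eval_eq_zero g G.ηinj hgroot ?_
    rw [Fintype.card_fin]
    omega
  intro j hj
  have h1 := congrArg (fun p => coeff p j) hg0
  simp only [hg, finsetSum_coeff, coeff_C_mul_X_pow, coeff_zero] at h1
  rw [Finset.sum_eq_single ⟨j, hj⟩] at h1
  · simpa using h1
  · intro i _ hi
    rw [if_neg]
    intro h2
    exact hi (Fin.ext h2.symm)
  · simp

include G M in
omit [IsAlgClosed k] in
/-- The coefficients at a root of `w`. -/
theorem Sep.Model.coeff_crit (l : Fin S.r) (α : Fin S.d → k[X]) {f : K}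
    (hf : IsIntegral (Algebra.adjoin k {x}) f)
    (h : ∑ j : Fin S.d, aeval x (α j) * bb S x y j = (x - algebraMap k K (S.ξ l)) * f) :
    ∀ j : Fin S.d, (α j).eval (S.ξ l) = 0 := by
  classical
  have hlt := M.coeff_crit_lt G l α hf h
  have hc := G.hc
  have hw0 : S.w.eval (S.ξ l) = 0 := by
    have := (rootMultiplicity_pos S.w_monic.ne_zero).mp (by
      rw [G.rootMultiplicity_w l]; exact G.apos l)
    exact this
  have hu : S.u.eval 0 = S.lam * S.w.eval (S.ξ l) := by
    rw [hw0, mul_zero, Sep.u, eval_mul, eval_pow, eval_X, zero_pow hc.ne', mul_zero]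
  obtain ⟨V, ht, hx, hy, hint⟩ := M.exists_place G hu
  set v := V.valuation with hv
  have hy1 : v y ≤ 1 := le_of_sub ht hy.le
  have hvx : v (x - algebraMap k K (S.ξ l)) ≠ 0 := by
    rw [v.ne_zero_iff]
    intro h0
    refine M.tr ?_
    rw [sub_eq_zero.mp h0]
    exact isAlgebraic_algebraMap _
  have hu1 : v (aeval y S.u1) = 1 := by
    refine poly_unit ht hy ?_
    rw [Sep.u1, eval_prod, Finset.prod_ne_zero_iff]
    intro i _
    rw [eval_sub, eval_X, eval_C, zero_sub, neg_ne_zero]
    exact G.ηne i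
  have hyc : v y ^ S.c = v (x - algebraMap k K (S.ξ l)) ^ S.a l := by
    have h1 := congrArg v M.eq
    rw [map_mul, ht _ G.lam0, one_mul, poly_root ht hx S.w_monic.ne_zero, G.rootMultiplicity_w, Sep.u, map_mul,
      map_mul, map_pow, aeval_X, map_pow, hu1, one_mul] at h1
    exact h1
  have hbb : ∀ j : ℕ, S.e ≤ j → v (bb S x y j) ^ S.c =
      v (x - algebraMap k K (S.ξ l)) ^ ((S.a l * (j - S.e)) % S.c) := by
    intro j hj
    have h1 : v (aeval y (S.bet j)) ^ S.c =
        v (x - algebraMap k K (S.ξ l)) ^ (S.a l * (j - S.e)) := by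
      rw [S.bet_of_le hj, map_mul, map_mul, hu1, map_pow, aeval_X, map_pow, one_mul, ← pow_mul,
        mul_comm (j - S.e), pow_mul, hyc, ← pow_mul]
    rw [bb, map_div₀, div_pow, h1, poly_root ht hx (S.om_ne_zero _), G.rootMultiplicity_om, ← pow_mul,
      div_eq_iff (pow_ne_zero _ hvx), ← pow_add, mul_comm (S.nn j l)]
    congr 1
    exact (Nat.mod_add_div _ _).symm
  have hterm : ∀ j : Fin S.d, S.e ≤ (j : ℕ) → α j ≠ 0 → v (aeval x (α j) * bb S x y j) ^ S.c =
      v (x - algebraMap k K (S.ξ l)) ^
        (S.c * (α j).rootMultiplicity (S.ξ l) + (S.a l * (j - S.e)) % S.c) := by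
    intro j hj hα
    rw [map_mul, mul_pow, hbb j hj, poly_root ht hx hα, ← pow_mul, ← pow_add,
      mul_comm (rootMultiplicity _ _)]
  have hinj : ∀ {a b : ℕ}, v (x - algebraMap k K (S.ξ l)) ^ a = v (x - algebraMap k K (S.ξ l)) ^ b → a = b :=
    fun {a b} hab => pow_right_injective₀ (zero_lt_iff.mpr hvx) hx.ne hab
  have hdist : ∀ i ∈ Finset.univ.filter (fun j : Fin S.d => ¬ (j : ℕ) < S.e),
      ∀ j ∈ Finset.univ.filter (fun j : Fin S.d => ¬ (j : ℕ) < S.e), i ≠ j →
      aeval x (α i) * bb S x y i ≠ 0 → aeval x (α j) * bb S x y j ≠ 0 →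
      v (aeval x (α i) * bb S x y i) ≠ v (aeval x (α j) * bb S x y j) := by
    intro i hi j hj hij hi0 hj0 heq
    rw [Finset.mem_filter, not_lt] at hi hj
    have hαi : α i ≠ 0 := fun h0 => hi0 (by rw [h0, map_zero, zero_mul])
    have hαj : α j ≠ 0 := fun h0 => hj0 (by rw [h0, map_zero, zero_mul])
    have h1 := congrArg (· ^ S.c) heq
    change v (aeval x (α i) * bb S x y i) ^ S.c = v (aeval x (α j) * bb S x y j) ^ S.c at h1
    rw [hterm i hi.2 hαi, hterm j hj.2 hαj] at h1
    have h2 := congrArg (· % S.c) (hinj h1)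
    simp only [Nat.mul_add_mod, Nat.mod_mod] at h2
    have h3 : S.a l * (i - S.e) ≡ S.a l * (j - S.e) [MOD S.c] := h2
    have h4 : (i : ℕ) - S.e ≡ j - S.e [MOD S.c] :=
      Nat.ModEq.cancel_left_of_coprime (by rw [Nat.gcd_comm]; exact G.acop l) h3
    have h5 : (i : ℕ) - S.e = j - S.e := by
      have hi2 := i.2
      have hj2 := j.2
      unfold Sep.d at hi2 hj2
      exact Nat.ModEq.eq_of_lt_of_lt h4 (by omega) (by omega)
    exact hij (Fin.ext (by omega))
  have hsum : v (∑ j ∈ Finset.univ.filter (fun j : Fin S.d => ¬ (j : ℕ) < S.e), aeval x (α j) * bb S x y j) ≤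
      v (x - algebraMap k K (S.ξ l)) := by
    have h1 : ∑ j ∈ Finset.univ.filter (fun j : Fin S.d => ¬ (j : ℕ) < S.e), aeval x (α j) * bb S x y j =
        (x - algebraMap k K (S.ξ l)) * f -
          ∑ j ∈ Finset.univ.filter (fun j : Fin S.d => (j : ℕ) < S.e), aeval x (α j) * bb S x y j := by
      rw [← h, ← Finset.sum_filter_add_sum_filter_not Finset.univ (fun j : Fin S.d => (j : ℕ) < S.e),
        add_sub_cancel_left]
    rw [h1]
    refine v.map_sub_le ?_ (v.map_sum_le fun j hj => ?_)
    · rw [map_mul]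
      exact mul_le_of_le_one_right' (hint f hf)
    · rw [Finset.mem_filter] at hj
      have h2 := sub_const_lt ht hx (α j)
      rw [hlt j hj.2, map_zero, sub_zero] at h2
      rw [map_mul, bb_of_lt hj.2]
      refine (mul_le_of_le_one_right' ?_).trans h2
      rw [map_pow]
      exact pow_le_one' hy1 _
  intro j
  by_cases hj : (j : ℕ) < S.e
  · exact hlt j hj
  by_cases hα : α j = 0
  · rw [hα, eval_zero]
  have h1 := (le_of_sum v _ _ hdist j (by simpa using hj)).trans hsum
  have h2 := pow_le_pow_left' h1 S.c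
  rw [hterm j (not_lt.mp hj) hα] at h2
  have h3 : S.c ≤ S.c * (α j).rootMultiplicity (S.ξ l) + (S.a l * (j - S.e)) % S.c := by
    by_contra hlt'
    push Not at hlt'
    exact absurd (pow_lt_pow_right_of_lt_one₀ (zero_lt_iff.mpr hvx) hx hlt') (not_lt.mpr h2)
  have h4 := Nat.mod_lt (S.a l * (j - S.e)) hc
  have h5 : 0 < (α j).rootMultiplicity (S.ξ l) := by
    by_contra h6
    have h7 : (α j).rootMultiplicity (S.ξ l) = 0 := by omega
    rw [h7, mul_zero] at h3
    omega
  exact (rootMultiplicity_pos hα).mp h5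

end Crit

end K310.SepData
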