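import Groth.Agent.Curves.K310.SepDeg
import Mathlib.FieldTheory.IsAlgClosed.Basic
import Mathlib.Algebra.Polynomial.BigOperators
import Mathlib.Algebra.Polynomial.Roots
import Mathlib.Algebra.Polynomial.Derivative
import Mathlib.RingTheory.Valuation.Integral

/-!
# Curves with separated variables `u(y) = λ w(x)`

`u(Y) = Y ^ c ∏ (Y - ηᵢ)` with `ηᵢ` distinct and nonzero, `w(X) = ∏ (X - ξₗ) ^ aₗ`, `aₗ` prime to `c`, `deg w` prime to
`deg u`.  Places at infinity and at finite distance.
-/

set_option autoImplicit false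
set_option linter.style.haveILetI false

open Polynomial

namespace K310.SepData

open DegFun ValTools SepDeg

/-- The data of a curve `u(y) = λ w(x)`. -/
structure Sep (k : Type*) [Field k] where
  e : ℕ
  c : ℕ
  r : ℕ
  η : Fin e → k
  ξ : Fin r → k
  a : Fin r → ℕ
  lam : k

namespace Sep

variable {k : Type*} [Field k] (S : Sep k)

/-- degree of `u`. -/
def d : ℕ := S.e + S.c

/-- degree of `w`. -/
def m : ℕ := ∑ l, S.a l

/-- `∏ (Y - ηᵢ)`. -/
noncomputable def u1 : k[X] := ∏ i, (X - C (S.η i))

/-- `u`. -/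
noncomputable def u : k[X] := S.u1 * X ^ S.c

/-- `w`. -/
noncomputable def w : k[X] := ∏ l, (X - C (S.ξ l)) ^ S.a l

theorem u1_monic : S.u1.Monic := monic_prod_of_monic _ _ fun _ _ => monic_X_sub_C _

theorem u_monic : S.u.Monic := S.u1_monic.mul (monic_X_pow _)

theorem w_monic : S.w.Monic := monic_prod_of_monic _ _ fun _ _ => (monic_X_sub_C _).pow _

theorem u1_natDegree : S.u1.natDegree = S.e := by
  rw [u1, natDegree_prod_of_monic _ _ fun _ _ => monic_X_sub_C _]
  simp

theorem u_natDegree : S.u.natDegree = S.d := by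
  rw [u, S.u1_monic.natDegree_mul (monic_X_pow _), natDegree_X_pow, u1_natDegree, d]

theorem w_natDegree : S.w.natDegree = S.m := by
  rw [w, natDegree_prod_of_monic _ _ fun _ _ => (monic_X_sub_C _).pow _]
  simp [(monic_X_sub_C _).natDegree_pow, m]

/-- The arithmetic and genericity conditions. -/
structure Good : Prop where
  hc : 0 < S.c
  hr : 0 < S.r
  ηinj : Function.Injective S.η
  ηne : ∀ i, S.η i ≠ 0
  ξinj : Function.Injective S.ξ
  apos : ∀ l, 0 < S.a l
  acop : ∀ l, Nat.Coprime (S.a l) S.c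
  mcop : Nat.Coprime S.m S.d
  lam0 : S.lam ≠ 0
  gen : ∀ x0 y0 : k, S.w.eval x0 ≠ 0 → S.u.eval y0 = S.lam * S.w.eval x0 →
    S.u.derivative.eval y0 ≠ 0 ∨ S.w.derivative.eval x0 ≠ 0

theorem Good.hd {S : Sep k} (G : S.Good) : 0 < S.d := by
  have := G.hc
  unfold d
  omega

theorem Good.hm {S : Sep k} (G : S.Good) : 0 < S.m := by
  have h1 := G.apos ⟨0, G.hr⟩
  have h2 : S.a ⟨0, G.hr⟩ ≤ S.m := Finset.single_le_sum (f := S.a) (fun _ _ => Nat.zero_le _) (Finset.mem_univ _)
  omega

/-- A model: a field `K ∋ x, y`, spanned by `y ^ j` over `k(x)`. -/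
structure Model {k : Type*} [Field k] (S : Sep k) {K : Type*} [Field K] [Algebra k K] (x y : K) : Prop where
  eq : aeval y S.u = algebraMap k K S.lam * aeval x S.w
  span : Spans k x y S.d
  tr : Transcendental k x

end Sep

open K310.SepData.Sep

variable {k K : Type*} [Field k] [Field K] [Algebra k K] {S : Sep k} (G : S.Good) {x y : K} (M : S.Model x y)

include M in
theorem Sep.Model.ne_zero : x ≠ 0 := by
  rintro rfl
  exact M.tr isAlgebraic_zero

include M in
theorem Sep.Model.exists_infinity :
    ∃ V : ValuationSubring K, Triv k V.valuation ∧ 1 < V.valuation x := by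
  have htr : Transcendental k x⁻¹ := fun h => M.tr (by simpa using h.inv)
  obtain ⟨V, h1, h2⟩ := exists_valuationSubring (aeval x⁻¹ : k[X] →ₐ[k] K).toRingHom (evalRingHom (0 : k))
    (fun r hr => by
      have : r = 0 := (transcendental_iff_injective.mp htr) (by rw [map_zero]; exact hr)
      rw [this, map_zero])
  refine ⟨V, triv_of_le fun c => ?_, ?_⟩
  · have := h1 (C c)
    simpa using this
  · have h3 := h2 X (by simp)
    have h4 : V.valuation x⁻¹ < 1 := by simpa using h3
    rw [map_inv₀] at h4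
    have h5 : V.valuation x ≠ 0 := (V.valuation.ne_zero_iff).mpr M.ne_zero
    exact (inv_lt_one₀ (zero_lt_iff.mpr h5)).mp h4

include G M in
theorem Sep.Model.infinity_rel {Γ : Type*} [LinearOrderedCommGroupWithZero Γ] {v : Valuation K Γ} (ht : Triv k v)
    (hx : 1 < v x) : v y ^ S.d = v x ^ S.m := by
  have h1 := congrArg v M.eq
  rw [map_mul, ht _ G.lam0, one_mul, poly_infinity ht hx S.w_monic.ne_zero, S.w_natDegree] at h1
  have h2 : 1 < v y := by
    by_contra h3
    push Not at h3
    have h4 := poly_le ht h3 S.u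
    rw [h1] at h4
    exact absurd (one_lt_pow₀ hx G.hm.ne') (not_lt.mpr h4)
  rw [poly_infinity ht h2 S.u_monic.ne_zero, S.u_natDegree] at h1
  exact h1

include G M in
/-- The degree function of the model. -/
theorem Sep.Model.exists_deg : ∃ D : K → ℤ, IsDeg k D ∧ D x = S.d ∧ D y = S.m := by
  obtain ⟨V, ht, hx⟩ := M.exists_infinity
  exact SepDeg.exists_deg G.hd G.mcop ht hx (M.infinity_rel G ht hx) M.span

include G M in
theorem Sep.Model.indep (g : Fin S.d → k[X]) (h : ∑ j, aeval x (g j) * y ^ (j : ℕ) = 0) : g = 0 := by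
  obtain ⟨V, ht, hx⟩ := M.exists_infinity
  exact SepDeg.eq_zero_of_sum G.mcop ht hx (M.infinity_rel G ht hx) g h

/-- The polynomial `u(Y) - λ w(X)` over `k[X]`. -/
noncomputable def P2 (S : Sep k) : k[X][X] := S.u.map C - C (C S.lam * S.w)

include G in
theorem P2_monic : (P2 S).Monic := by
  refine (S.u_monic.map C).sub_of_left ?_
  have h1 : (S.u.map (C : k →+* k[X])).degree = S.d := by
    rw [S.u_monic.degree_map, degree_eq_natDegree S.u_monic.ne_zero, S.u_natDegree]
  rw [h1]
  refine degree_C_le.trans_lt ?_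
  exact_mod_cast G.hd

omit G in
theorem P2_natDegree (S : Sep k) : (P2 S).natDegree = S.d := by
  rw [P2, natDegree_sub_C, S.u_monic.natDegree_map, S.u_natDegree]

include G M in
/-- Specializations of `k[x, y]`. -/
theorem Sep.Model.ev_eq_zero {x0 y0 : k} (h : S.u.eval y0 = S.lam * S.w.eval x0) (R : k[X][X])
    (hR : eval₂RingHom (aeval x : k[X] →ₐ[k] K).toRingHom y R = 0) :
    eval₂RingHom (evalRingHom x0) y0 R = 0 := by
  have hφP : eval₂RingHom (aeval x : k[X] →ₐ[k] K).toRingHom y (P2 S) = 0 := by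
    simp only [P2, map_sub, coe_eval₂RingHom, eval₂_map, eval₂_C]
    have h1 : (aeval x : k[X] →ₐ[k] K).toRingHom.comp C = algebraMap k K := by ext; simp
    rw [h1, ← aeval_def, M.eq]
    simp
  have hevP : eval₂RingHom (evalRingHom x0) y0 (P2 S) = 0 := by
    simp only [P2, map_sub, coe_eval₂RingHom, eval₂_map, eval₂_C]
    have h1 : (evalRingHom x0).comp C = RingHom.id k := by ext; simp
    rw [h1, eval₂_id, h]
    simp
  have hdiv := modByMonic_add_div R (P2 S)
  have h0 : R %ₘ (P2 S) = 0 := by
    have h1 : eval₂RingHom (aeval x : k[X] →ₐ[k] K).toRingHom y (R %ₘ (P2 S)) = 0 := by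
      have := congrArg (eval₂RingHom (aeval x : k[X] →ₐ[k] K).toRingHom y) hdiv
      rwa [map_add, map_mul, hφP, zero_mul, add_zero, hR] at this
    have h2 : (R %ₘ (P2 S)).natDegree < S.d := by
      rw [← P2_natDegree S]
      refine natDegree_modByMonic_lt _ (P2_monic G) fun h3 => ?_
      have h4 := P2_natDegree S
      rw [h3, natDegree_one] at h4
      have := G.hd
      omega
    have h3 := M.indep G (fun j => (R %ₘ (P2 S)).coeff j) (by
      rw [coe_eval₂RingHom, eval₂_eq_sum_range' _ h2] at h1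
      rw [← h1]
      exact Fin.sum_univ_eq_sum_range (fun j => aeval x ((R %ₘ (P2 S)).coeff j) * y ^ j) S.d)
    ext1 j
    by_cases hj : j < S.d
    · exact congrFun h3 ⟨j, hj⟩
    · rw [coeff_eq_zero_of_natDegree_lt (by omega), coeff_zero]
  rw [← hdiv, h0, map_add, map_mul, hevP, zero_mul, map_zero, add_zero]

include G M in
/-- **Places at finite distance.** -/
theorem Sep.Model.exists_place {x0 y0 : k} (h : S.u.eval y0 = S.lam * S.w.eval x0) :
    ∃ V : ValuationSubring K, Triv k V.valuation ∧ V.valuation (x - algebraMap k K x0) < 1 ∧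
      V.valuation (y - algebraMap k K y0) < 1 ∧
      ∀ f : K, IsIntegral (Algebra.adjoin k {x}) f → V.valuation f ≤ 1 := by
  obtain ⟨V, h1, h2⟩ := exists_valuationSubring (eval₂RingHom (aeval x : k[X] →ₐ[k] K).toRingHom y)
    (eval₂RingHom (evalRingHom x0) y0) (M.ev_eq_zero G h)
  have ht : Triv k V.valuation := triv_of_le fun c => by
    have := h1 (C (C c))
    simpa using this
  have hx : V.valuation (x - algebraMap k K x0) < 1 := by
    have := h2 (C (X - C x0)) (by simp)
    simpa using this
  refine ⟨V, ht, hx, ?_, ?_⟩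
  · have := h2 (X - C (C y0)) (by simp)
    simpa using this
  · intro f hf
    have hle : Algebra.adjoin k {x} ≤
        { V.toSubring with algebraMap_mem' := fun c => (V.valuation_le_one_iff _).mp (const_le ht c) } := by
      refine Algebra.adjoin_le ?_
      rw [Set.singleton_subset_iff]
      exact (V.valuation_le_one_iff _).mp (le_of_sub ht hx.le)
    obtain ⟨p, hp, hpf⟩ := hf
    have h3 : IsIntegral V f := by
      let ι : Algebra.adjoin k {x} →+* V := Subring.inclusion (S := (Algebra.adjoin k {x}).toSubring)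
        (T := V.toSubring) hle
      refine ⟨p.map ι, hp.map _, ?_⟩
      rw [eval₂_map]
      exact hpf
    obtain ⟨z, hz⟩ := IsIntegrallyClosed.algebraMap_eq_of_integral (R := V) (K := K) h3
    rw [← hz]
    exact V.valuation_le_one z

end K310.SepData
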