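import Groth.Agent.Curves.K310.ValTools

/-!
# The degree function of a totally ramified place at infinity
-/

set_option autoImplicit false

open Polynomial

namespace K310.SepDeg

open DegFun ValTools

variable {k K Γ : Type*} [Field k] [Field K] [Algebra k K] [LinearOrderedCommGroupWithZero Γ]

/-- `K` is spanned by `1, y, …, y ^ (d - 1)` over `k(x)`. -/
def Spans (k : Type*) {K : Type*} [Field k] [Field K] [Algebra k K] (x y : K) (d : ℕ) : Prop :=
  ∀ f : K, ∃ q : k[X], q ≠ 0 ∧ ∃ g : Fin d → k[X], aeval x q * f = ∑ j, aeval x (g j) * y ^ (j : ℕ)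

variable {x y : K} {d m : ℕ} {v : Valuation K Γ} (hd : 0 < d) (hm : 0 < m) (hcop : Nat.Coprime m d)
  (ht : Triv k v) (hx : 1 < v x) (hy : v y ^ d = v x ^ m)

theorem zpow_inj {γ : Γ} (hγ : 1 < γ) {a b : ℤ} (h : γ ^ a = γ ^ b) : a = b :=
  (zpow_right_strictMono₀ hγ).injective h

theorem zpow_le {γ : Γ} (hγ : 1 < γ) {a b : ℤ} (h : γ ^ a ≤ γ ^ b) : a ≤ b :=
  (zpow_right_strictMono₀ hγ).le_iff_le.mp h

theorem npow_inj {γ : Γ} (hγ : 1 < γ) {a b : ℕ} (h : γ ^ a = γ ^ b) : a = b := by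
  have := zpow_inj hγ (a := a) (b := b) (by simpa using h)
  exact_mod_cast this

include ht hx hy

theorem term_pow {g : k[X]} (hg : g ≠ 0) (j : ℕ) :
    v (aeval x g * y ^ j) ^ d = v x ^ (d * g.natDegree + m * j) := by
  rw [map_mul, poly_infinity ht hx hg, map_pow, mul_pow, ← pow_mul, ← pow_mul, mul_comm j d, pow_mul (v y), hy,
    ← pow_mul, ← pow_add, mul_comm g.natDegree d]

include hcop

theorem term_distinct {g g' : k[X]} (hg : g ≠ 0) (hg' : g' ≠ 0) {i j : Fin d}
    (h : v (aeval x g * y ^ (i : ℕ)) = v (aeval x g' * y ^ (j : ℕ))) : i = j := by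
  have h1 := congrArg (· ^ d) h
  rw [term_pow ht hx hy hg, term_pow ht hx hy hg'] at h1
  have h2 := npow_inj hx h1
  have h3 : (d : ℤ) ∣ m * ((i : ℤ) - j) := ⟨(g'.natDegree : ℤ) - g.natDegree, by
    have : (d : ℤ) * g.natDegree + m * i = d * g'.natDegree + m * j := by exact_mod_cast h2
    linarith⟩
  have h4 : (d : ℤ) ∣ (i : ℤ) - j :=
    Int.dvd_of_dvd_mul_right_of_gcd_one h3 (by
      rw [Int.gcd_natCast_natCast]
      exact hcop.symm)
  have h5 := Int.eq_zero_of_abs_lt_dvd h4 (by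
    have := i.2
    have := j.2
    rw [abs_lt]
    omega)
  ext
  omega

theorem pairwise_ne (g : Fin d → k[X]) : ∀ i ∈ (Finset.univ : Finset (Fin d)), ∀ j ∈ (Finset.univ : Finset (Fin d)),
    i ≠ j → aeval x (g i) * y ^ (i : ℕ) ≠ 0 → aeval x (g j) * y ^ (j : ℕ) ≠ 0 →
      v (aeval x (g i) * y ^ (i : ℕ)) ≠ v (aeval x (g j) * y ^ (j : ℕ)) := by
  intro i _ j _ hij hi hj h
  refine hij (term_distinct hcop ht hx hy ?_ ?_ h)
  · rintro h0
    rw [h0, map_zero, zero_mul] at hi
    exact hi rfl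
  · rintro h0
    rw [h0, map_zero, zero_mul] at hj
    exact hj rfl

/-- `1, y, …` are independent over `k(x)`. -/
theorem eq_zero_of_sum (g : Fin d → k[X]) (h : ∑ j, aeval x (g j) * y ^ (j : ℕ) = 0) : g = 0 := by
  ext1 j
  by_contra hj
  change g j ≠ 0 at hj
  have h1 := le_of_sum v Finset.univ _ (pairwise_ne hcop ht hx hy g) j (Finset.mem_univ j)
  rw [h, map_zero, le_zero_iff, map_mul, poly_infinity ht hx hj, map_pow] at h1
  have hx0 : v x ≠ 0 := fun h0 => by rw [h0] at hx; exact not_lt_zero hx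
  have hd : 0 < d := lt_of_le_of_lt (Nat.zero_le _) j.2
  have hy0 : v y ≠ 0 := fun h0 => by
    rw [h0, zero_pow hd.ne'] at hy
    exact pow_ne_zero m hx0 hy.symm
  exact mul_ne_zero (pow_ne_zero _ hx0) (pow_ne_zero _ hy0) h1

theorem exists_exp (hspan : Spans k x y d) {f : K} (hf : f ≠ 0) : ∃ n : ℤ, v f ^ d = v x ^ n := by
  obtain ⟨q, hq, g, hg⟩ := hspan f
  have hx0 : v x ≠ 0 := fun h0 => by rw [h0] at hx; exact not_lt_zero hx
  have hq0 : v (aeval x q) = v x ^ q.natDegree := poly_infinity ht hx hq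
  have hne : aeval x q * f ≠ 0 := by
    refine mul_ne_zero ?_ hf
    rw [← v.ne_zero_iff, hq0]
    exact pow_ne_zero _ hx0
  obtain ⟨j, _, hj0, hj⟩ := exists_eq_of_sum v Finset.univ _ (pairwise_ne hcop ht hx hy g) (by rw [← hg]; exact hne)
  have hgj : g j ≠ 0 := by
    rintro h0
    rw [h0, map_zero, zero_mul] at hj0
    exact hj0 rfl
  have h1 := congrArg (· ^ d) hj
  rw [term_pow ht hx hy hgj, ← hg, map_mul, hq0, mul_pow, ← pow_mul] at h1
  refine ⟨((d * (g j).natDegree + m * j : ℕ) : ℤ) - ((q.natDegree * d : ℕ) : ℤ), ?_⟩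
  rw [zpow_sub₀ hx0, zpow_natCast, zpow_natCast, h1, mul_comm, mul_div_assoc, div_self (pow_ne_zero _ hx0), mul_one]

/-- Residues. -/
theorem exists_residue (hspan : Spans k x y d) {h : K} (hh : v h = 1) :
    ∃ c : k, v (h - algebraMap k K c) < 1 := by
  have hx0 : v x ≠ 0 := fun h0 => by rw [h0] at hx; exact not_lt_zero hx
  obtain ⟨q, hq, g, hg⟩ := hspan h
  have hq0 : v (aeval x q) = v x ^ q.natDegree := poly_infinity ht hx hq
  have hqne : v (aeval x q) ≠ 0 := by rw [hq0]; exact pow_ne_zero _ hx0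
  have h1 := le_of_sum v Finset.univ _ (pairwise_ne hcop ht hx hy g)
  rw [← hg, map_mul, hh, mul_one] at h1
  have hd : 0 < d := by
    by_contra h0
    have : d = 0 := by omega
    subst this
    simp only [Finset.univ_eq_empty, Finset.sum_empty, mul_eq_zero] at hg
    rcases hg with hg | hg
    · rw [hg, map_zero] at hqne; exact hqne rfl
    · rw [hg, map_zero] at hh; exact zero_ne_one hh
  let z0 : Fin d := ⟨0, hd⟩
  -- degree of `g 0`
  have h2 : (g z0).natDegree ≤ q.natDegree := by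
    by_cases h0 : g z0 = 0
    · rw [h0, natDegree_zero]; exact Nat.zero_le _
    have h3 := h1 z0 (Finset.mem_univ _)
    simp only [z0, pow_zero, mul_one] at h3
    rw [poly_infinity ht hx h0, hq0] at h3
    have := zpow_le hx (a := ((g z0).natDegree : ℤ)) (b := (q.natDegree : ℤ)) (by simpa using h3)
    exact_mod_cast this
  let c : k := (g z0).coeff q.natDegree / q.leadingCoeff
  refine ⟨c, ?_⟩
  have hlc : q.leadingCoeff ≠ 0 := leadingCoeff_ne_zero.mpr hq
  have h3 : v (aeval x (g z0 - C c * q)) < v (aeval x q) := by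
    by_cases h0 : g z0 - C c * q = 0
    · rw [h0, map_zero, map_zero]; exact zero_lt_iff.mpr hqne
    rw [poly_infinity ht hx h0, hq0]
    refine pow_lt_pow_right₀ hx ?_
    have h4 : (g z0 - C c * q).natDegree ≤ q.natDegree := by
      refine (natDegree_sub_le _ _).trans (max_le h2 ?_)
      exact natDegree_C_mul_le _ _
    refine lt_of_le_of_ne h4 fun h5 => h0 ?_
    rw [← leadingCoeff_eq_zero, leadingCoeff, h5, coeff_sub, coeff_C_mul, coeff_natDegree]
    simp only [c]
    rw [div_mul_cancel₀ _ hlc, sub_self]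
  have h4 : aeval x q * (h - algebraMap k K c) = aeval x (g z0 - C c * q) +
      ∑ j ∈ Finset.univ.erase z0, aeval x (g j) * y ^ (j : ℕ) := by
    rw [mul_sub, hg, ← Finset.add_sum_erase Finset.univ _ (Finset.mem_univ z0)]
    simp only [z0, pow_zero, mul_one, map_sub, map_mul, aeval_C]
    ring
  have h5 : v (∑ j ∈ Finset.univ.erase z0, aeval x (g j) * y ^ (j : ℕ)) < v (aeval x q) := by
    refine v.map_sum_lt hqne fun j hj => ?_
    rw [Finset.mem_erase] at hj
    by_cases h0 : g j = 0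
    · rw [h0, map_zero, zero_mul, map_zero]; exact zero_lt_iff.mpr hqne
    refine lt_of_le_of_ne (h1 j (Finset.mem_univ _)) fun h6 => ?_
    have h7 := congrArg (· ^ d) h6
    rw [term_pow ht hx hy h0, hq0, ← pow_mul] at h7
    have h8 := npow_inj hx h7
    have h9 : d ∣ m * j := by
      have h10 : d ∣ d * (g j).natDegree + m * j := by rw [h8]; exact dvd_mul_left _ _
      exact (Nat.dvd_add_right (dvd_mul_right _ _)).mp h10
    have h10 : d ∣ j := hcop.symm.dvd_of_dvd_mul_left h9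
    have h11 := Nat.eq_zero_of_dvd_of_lt h10 j.2
    exact hj.1 (Fin.ext h11)
  have h6 : v (aeval x q * (h - algebraMap k K c)) < v (aeval x q) := by
    rw [h4]
    exact v.map_add_lt h3 h5
  rw [map_mul] at h6
  by_contra h7
  push Not at h7
  exact absurd h6 (not_lt.mpr (le_mul_of_one_le_right' h7))

include hd

/-- **The degree function.** -/
theorem exists_deg (hspan : Spans k x y d) :
    ∃ D : K → ℤ, IsDeg k D ∧ D x = d ∧ D y = m := by
  classical
  have hx0 : v x ≠ 0 := fun h0 => by rw [h0] at hx; exact not_lt_zero hx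
  have hex : ∀ f : K, ∃ n : ℤ, f ≠ 0 → v f ^ d = v x ^ n := by
    intro f
    by_cases hf : f = 0
    · exact ⟨0, fun h => absurd hf h⟩
    · obtain ⟨n, hn⟩ := exists_exp hcop ht hx hy hspan hf
      exact ⟨n, fun _ => hn⟩
  choose D hD using hex
  have hle : ∀ f g : K, f ≠ 0 → g ≠ 0 → v f ≤ v g → D f ≤ D g := by
    intro f g hf hg h
    refine zpow_le hx ?_
    rw [← hD f hf, ← hD g hg]
    exact pow_le_pow_left' h d
  have hlt : ∀ f g : K, f ≠ 0 → g ≠ 0 → v f < v g → D f < D g := by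
    intro f g hf hg h
    refine lt_of_le_of_ne (hle f g hf hg h.le) fun h1 => ?_
    have h2 : v f ^ d = v g ^ d := by rw [hD f hf, hD g hg, h1]
    exact h.ne ((pow_left_inj₀ zero_le zero_le hd.ne').mp h2)
  refine ⟨D, ⟨?_, ?_, ?_, ?_⟩, ?_, ?_⟩
  · intro f g hf hg
    refine zpow_inj hx ?_
    rw [← hD _ (mul_ne_zero hf hg), map_mul, mul_pow, hD f hf, hD g hg, zpow_add₀ hx0]
  · intro f g hf hg hfg
    have h1 := v.map_add f g
    rcases le_max_iff.mp h1 with h | h
    · exact le_max_of_le_left (hle _ _ hfg hf h)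
    · exact le_max_of_le_right (hle _ _ hfg hg h)
  · intro c hc
    refine zpow_inj hx ?_
    rw [← hD _ ((_root_.map_ne_zero _).mpr hc), ht c hc, one_pow, zpow_zero]
  · intro f g hf hg h
    have h1 : v f = v g := by
      have h2 : v f ^ d = v g ^ d := by rw [hD f hf, hD g hg, h]
      exact (pow_left_inj₀ zero_le zero_le hd.ne').mp h2
    have h2 : v (f / g) = 1 := by
      rw [map_div₀, h1, div_self ((v.ne_zero_iff).mpr hg)]
    obtain ⟨c, hc⟩ := exists_residue hcop ht hx hy hspan h2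
    refine ⟨c, or_iff_not_imp_left.mpr fun h3 => hlt _ _ h3 hf ?_⟩
    have h4 : f - c • g = g * (f / g - algebraMap k K c) := by
      rw [mul_sub, mul_div_cancel₀ f hg, Algebra.smul_def, mul_comm g]
    rw [h4, map_mul, h1]
    exact mul_lt_of_lt_one_right (zero_lt_iff.mpr ((v.ne_zero_iff).mpr hg)) hc
  · refine zpow_inj hx ?_
    have hx0' : x ≠ 0 := (v.ne_zero_iff).mp hx0
    rw [← hD x hx0', zpow_natCast]
  · refine zpow_inj hx ?_
    have hy0 : y ≠ 0 := by
      rintro rfl
      rw [map_zero, zero_pow hd.ne'] at hy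
      exact pow_ne_zero m hx0 hy.symm
    rw [← hD y hy0, zpow_natCast, hy]

end K310.SepDeg
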