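import Groth.Agent.Curves.K310.SepGenus
import Groth.Agent.CurvSt.K310.DoubleCoverExists

/-!
# Existence of curves with separated variables
-/

set_option autoImplicit false
set_option linter.style.haveILetI false

universe u

open Polynomial

namespace K310.SepData

open DegFun ValTools SepDeg OnePlace DoubleCoverExists

section Generic

variable {k : Type*} [Field k]

theorem eval_derivative_X_sub_C_mul (a : k) (q : k[X]) :
    (derivative ((X - C a) * q)).eval a = q.eval a := by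
  simp [derivative_mul]

theorem u_derivative_ne {S : Sep k} (he : 0 < S.e) (hη : Function.Injective S.η) (hη0 : ∀ i, S.η i ≠ 0) :
    derivative S.u ≠ 0 := by
  classical
  intro h
  let i0 : Fin S.e := ⟨0, he⟩
  have h1 : S.u = (X - C (S.η i0)) * ((∏ i ∈ Finset.univ.erase i0, (X - C (S.η i))) * X ^ S.c) := by
    rw [Sep.u, Sep.u1, ← mul_assoc, Finset.mul_prod_erase _ (fun i => X - C (S.η i)) (Finset.mem_univ i0)]
  have h2 := eval_derivative_X_sub_C_mul (S.η i0) ((∏ i ∈ Finset.univ.erase i0, (X - C (S.η i))) * X ^ S.c)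
  rw [← h1, h, eval_zero, eval_mul, eval_prod, eval_pow, eval_X, eq_comm, mul_eq_zero] at h2
  rcases h2 with h2 | h2
  · rw [Finset.prod_eq_zero_iff] at h2
    obtain ⟨i, hi, h3⟩ := h2
    rw [eval_sub, eval_X, eval_C, sub_eq_zero] at h3
    exact (Finset.mem_erase.mp hi).1 (hη h3.symm)
  · exact hη0 i0 (eq_zero_of_pow_eq_zero h2)

theorem w_derivative_ne {S : Sep k} (hξ : Function.Injective S.ξ) (hpos : ∀ l, 0 < S.a l) (l : Fin S.r)
    (hl : (S.a l : k) ≠ 0) : derivative S.w ≠ 0 := by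
  classical
  intro h
  set q : k[X] := ∏ i ∈ Finset.univ.erase l, (X - C (S.ξ i)) ^ S.a i with hq
  have h1 : S.w = (X - C (S.ξ l)) ^ S.a l * q := (Finset.mul_prod_erase _ _ (Finset.mem_univ l)).symm
  have h2 : q.eval (S.ξ l) ≠ 0 := by
    rw [hq, eval_prod, Finset.prod_ne_zero_iff]
    intro i hi
    rw [eval_pow, eval_sub, eval_X, eval_C]
    exact pow_ne_zero _ (sub_ne_zero.mpr fun h => (Finset.mem_erase.mp hi).1 (hξ h.symm))
  obtain ⟨b, hb⟩ : ∃ b, S.a l = b + 1 := ⟨S.a l - 1, by have := hpos l; omega⟩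
  have h3 : derivative S.w = (X - C (S.ξ l)) ^ b * (C (S.a l : k) * q + (X - C (S.ξ l)) * derivative q) := by
    rw [h1, derivative_mul, derivative_X_sub_C_pow, hb, Nat.add_sub_cancel]
    ring
  rw [h, eq_comm, mul_eq_zero, or_iff_right (pow_ne_zero _ (X_sub_C_ne_zero _))] at h3
  have h4 := congrArg (eval (S.ξ l)) h3
  rw [eval_add, eval_mul, eval_mul, eval_C, eval_sub, eval_X, eval_C, sub_self, zero_mul, add_zero,
    eval_zero, mul_eq_zero] at h4
  exact h4.elim hl h2

/-- Genericity of `λ`. -/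
theorem exists_lam [Infinite k] {u w : k[X]} (hu : derivative u ≠ 0) (hw : derivative w ≠ 0) :
    ∃ lam : k, lam ≠ 0 ∧ ∀ x0 y0 : k, w.eval x0 ≠ 0 → u.eval y0 = lam * w.eval x0 →
      (derivative u).eval y0 ≠ 0 ∨ (derivative w).eval x0 ≠ 0 := by
  classical
  obtain ⟨lam, hlam⟩ := Infinite.exists_notMem_finset
    (insert 0 (((derivative u).roots.toFinset ×ˢ (derivative w).roots.toFinset).image
      (fun p => u.eval p.1 / w.eval p.2)))
  rw [Finset.mem_insert, not_or] at hlam
  refine ⟨lam, hlam.1, fun x0 y0 hx0 h => ?_⟩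
  by_contra hcon
  push Not at hcon
  refine hlam.2 (Finset.mem_image.mpr ⟨(y0, x0), ?_, ?_⟩)
  · rw [Finset.mem_product]
    exact ⟨Multiset.mem_toFinset.mpr ((mem_roots hu).mpr hcon.1),
      Multiset.mem_toFinset.mpr ((mem_roots hw).mpr hcon.2)⟩
  · simp only
    rw [h, mul_div_cancel_right₀ _ hx0]

theorem exists_good [Infinite k] (e c r : ℕ) (a : Fin r → ℕ) (he : 0 < e) (hc : 0 < c) (hr : 0 < r)
    (apos : ∀ l, 0 < a l) (acop : ∀ l, Nat.Coprime (a l) c) (mcop : Nat.Coprime (∑ l, a l) (e + c))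
    (hak : ∃ l, (a l : k) ≠ 0) :
    ∃ (η : Fin e → k) (ξ : Fin r → k) (lam : k), (⟨e, c, r, η, ξ, a, lam⟩ : Sep k).Good := by
  haveI : Infinite (({0}ᶜ : Set k)) := ((Set.finite_singleton (0 : k)).infinite_compl).to_subtype
  let ι := Infinite.natEmbedding (({0}ᶜ : Set k))
  let κ := Infinite.natEmbedding k
  let η : Fin e → k := fun i => (ι i : k)
  let ξ : Fin r → k := fun i => κ i
  have hη : Function.Injective η := fun i j hij => Fin.ext (ι.injective (Subtype.ext hij))
  have hη0 : ∀ i, η i ≠ 0 := fun i => (ι i).2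
  have hξ : Function.Injective ξ := fun i j hij => Fin.ext (κ.injective hij)
  obtain ⟨l, hl⟩ := hak
  obtain ⟨lam, h0, h1⟩ := exists_lam
    (u_derivative_ne (S := (⟨e, c, r, η, ξ, a, 0⟩ : Sep k)) he hη hη0)
    (w_derivative_ne (S := (⟨e, c, r, η, ξ, a, 0⟩ : Sep k)) hξ apos l hl)
  exact ⟨η, ξ, lam, ⟨hc, hr, hη, hη0, hξ, apos, acop, mcop, h0, h1⟩⟩

end Generic

/-- **Existence of the model.** -/
theorem exists_model {k : Type u} [Field k] (S : Sep k) (hd : 0 < S.d) :
    ∃ (K : Type u) (_ : Field K) (_ : Algebra k K) (_ : Algebra.EssFiniteType k K) (x y : K),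
      Algebra.trdeg k K = 1 ∧ S.Model x y := by
  classical
  let P : (Fr k)[X] := S.u.map (algebraMap k (Fr k)) - C (algebraMap k (Fr k) S.lam * aeval (tt k) S.w)
  have hPm : P.Monic := by
    refine (S.u_monic.map _).sub_of_left ?_
    rw [S.u_monic.degree_map, degree_eq_natDegree S.u_monic.ne_zero, S.u_natDegree]
    refine degree_C_le.trans_lt ?_
    exact_mod_cast hd
  have hPd : P.natDegree = S.d := by
    rw [natDegree_sub_C, S.u_monic.natDegree_map, S.u_natDegree]
  obtain ⟨Q, hQ, hQP⟩ := exists_irreducible_of_natDegree_pos (show 0 < P.natDegree by omega)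
  haveI : Fact (Irreducible Q) := ⟨hQ⟩
  let K := AdjoinRoot Q
  let y : K := AdjoinRoot.root Q
  let x : K := algebraMap (Fr k) K (tt k)
  have hfin : Module.Finite (Fr k) K := (AdjoinRoot.powerBasis hQ.ne_zero).finite
  have hinjK : Function.Injective (algebraMap k[X] K) := by
    rw [IsScalarTower.algebraMap_eq k[X] (Fr k) K]
    exact (algebraMap (Fr k) K).injective.comp (IsFractionRing.injective k[X] (Fr k))
  haveI : FaithfulSMul k[X] K := (faithfulSMul_iff_algebraMap_injective _ _).mpr hinjK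
  haveI : Algebra.IsAlgebraic k[X] K :=
    (IsFractionRing.comap_isAlgebraic_iff (A := k[X]) (K := Fr k) (C := K)).mpr inferInstance
  haveI : FaithfulSMul k k[X] := (faithfulSMul_iff_algebraMap_injective _ _).mpr C_injective
  have htr : Algebra.trdeg k K = 1 := by
    rw [← trdeg_add_eq k k[X] (A := K), Polynomial.trdeg_of_isDomain, trdeg_eq_zero, add_zero]
  haveI : Algebra.EssFiniteType k[X] (Fr k) := Algebra.EssFiniteType.of_isLocalization _ (nonZeroDivisors k[X])
  haveI : Algebra.EssFiniteType k (Fr k) := Algebra.EssFiniteType.comp k k[X] (Fr k)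
  haveI : Algebra.EssFiniteType k K := Algebra.EssFiniteType.comp k (Fr k) K
  have hx : ∀ p : k[X], aeval x p = algebraMap (Fr k) K (algebraMap k[X] (Fr k) p) := by
    intro p
    rw [← aeval_tt, ← aeval_algebraMap_apply]
  have hPy : aeval y P = 0 := by
    obtain ⟨R, hR⟩ := hQP
    have h2 : aeval y Q = 0 := by
      rw [AdjoinRoot.aeval_eq, AdjoinRoot.mk_self]
    rw [hR, map_mul, h2, zero_mul]
  refine ⟨K, inferInstance, inferInstance, inferInstance, x, y, htr, ?_, ?_, ?_⟩
  · simp only [P, map_sub, aeval_map_algebraMap, aeval_C, map_mul, sub_eq_zero] at hPy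
    rw [hPy, ← IsScalarTower.algebraMap_apply k (Fr k) K]
    exact congrArg _ (aeval_algebraMap_apply K (tt k) S.w).symm
  · intro f
    obtain ⟨g, rfl⟩ := AdjoinRoot.mk_surjective f
    have h2 : AdjoinRoot.mk Q g = aeval y (g %ₘ P) := by
      have h3 := congrArg (aeval y) (modByMonic_add_div g P)
      rw [map_add, map_mul, hPy, zero_mul, add_zero] at h3
      rw [h3, AdjoinRoot.aeval_eq]
    have h3 : (g %ₘ P).natDegree < S.d := by
      rw [← hPd]
      refine natDegree_modByMonic_lt g hPm fun h4 => ?_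
      rw [h4, natDegree_one] at hPd
      omega
    obtain ⟨b, hb⟩ := IsLocalization.exist_integer_multiples (nonZeroDivisors k[X]) (Finset.range S.d)
      (fun j => (g %ₘ P).coeff j)
    choose! c hc using hb
    refine ⟨b, nonZeroDivisors.ne_zero b.2, fun j => c j, ?_⟩
    rw [h2, aeval_eq_sum_range' h3, Finset.mul_sum, ← Fin.sum_univ_eq_sum_range
      (fun j => aeval x (b : k[X]) * ((g %ₘ P).coeff j • y ^ j)) S.d]
    refine Finset.sum_congr rfl fun j _ => ?_
    rw [hx, hx, hc j (Finset.mem_range.mpr j.2), Algebra.smul_def, Algebra.smul_def, map_mul, mul_assoc]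
  · exact (transcendental_algebraMap_iff (algebraMap (Fr k) K).injective).mpr tt_transcendental

open CategoryTheory AlgebraicGeometry in
/-- **The covers attached to the monomials `x ^ i y ^ j`.** -/
theorem exists_cover_of_param (k : Type u) [Field k] [IsAlgClosed k] (e c r : ℕ) (a : Fin r → ℕ) (he : 0 < e)
    (hc : 0 < c) (hr : 0 < r) (apos : ∀ l, 0 < a l) (acop : ∀ l, Nat.Coprime (a l) c)
    (mcop : Nat.Coprime (∑ l, a l) (e + c)) (hak : ∃ l, (a l : k) ≠ 0) (i j n : ℕ)
    (hn : n = i * (e + c) + j * ∑ l, a l) (hn0 : 0 < n) (γ : ℕ)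
    (hγ : 2 * γ + ∑ l, (a l - 1) * (c - 1) = (∑ l, a l - 1) * (e + c - 1)) :
    ∃ (X : Scheme.{u}) (f : X ⟶ Spec (CommRingCat.of k)), Curve.IsSmoothProperCurve k X f ∧
      @Curv2.genus k _ X ⟨f⟩ = γ ∧ ∃ π : X ⟶ CohB1.ProjSpace 1 k,
        π ≫ CohB1.ProjSpace.toSpec 1 k = f ∧ Mor2.IsFinLocFreeOfDeg n π := by
  haveI : Infinite k := IsAlgClosed.instInfinite
  obtain ⟨η, ξ, lam, G⟩ := exists_good (k := k) e c r a he hc hr apos acop mcop hak
  obtain ⟨K, _, _, _, x, y, htr, M⟩ := exists_model _ G.hd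
  obtain ⟨D, H, hDx, hDy⟩ := M.exists_deg G
  have P := M.isOnePlace G H hDx hDy
  have hx0 := M.ne_zero
  have hy0 := M.y_ne_zero G H hDx hDy
  have hxm : x ∈ ring k x := isIntegral_algebraMap (R := Algebra.adjoin k {x}) (A := K)
    (x := ⟨x, Algebra.subset_adjoin rfl⟩)
  have hym : y ∈ ring k x := M.isIntegral_y G
  have hD : D (x ^ i * y ^ j) = n := by
    rw [H.mul _ _ (pow_ne_zero _ hx0) (pow_ne_zero _ hy0), H.pow hx0, H.pow hy0, hDx, hDy, hn]
    simp only [Sep.d, Sep.m]
    push_cast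
    ring
  obtain ⟨X, ν, h1, h2, h3⟩ := P.exists_cover htr (mul_mem (pow_mem hxm i) (pow_mem hym j))
    (mul_ne_zero (pow_ne_zero _ hx0) (pow_ne_zero _ hy0)) hn0 hD
  refine ⟨X, _, h2, ?_, ν, rfl, h1⟩
  rw [h3]
  have h4 := M.two_mul_card_gapSet G H hDx hDy
  simp only [Sep.d, Sep.m] at h4
  omega

end K310.SepData
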