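import Groth.Agent.Curves.K310.SepOnePlace

/-!
# The genus of a curve with separated variables
-/

set_option autoImplicit false
set_option linter.style.haveILetI false

universe u

open Polynomial

namespace K310.SepData

open DegFun ValTools SepDeg OnePlace

/-- `2 ∑ ⌊a i / c⌋ = (a - 1) (c - 1)`. -/
theorem two_mul_sum_div {a c : ℕ} (ha : 0 < a) (hc : 0 < c) (h : Nat.Coprime a c) :
    2 * ∑ i ∈ Finset.range c, (a * i) / c = (a - 1) * (c - 1) := by
  obtain ⟨c', rfl⟩ : ∃ c', c = c' + 1 := ⟨c - 1, by omega⟩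
  rw [Finset.sum_range_succ', mul_zero, Nat.zero_div, add_zero, two_mul]
  have h1 : ∑ i ∈ Finset.range c', (a * (i + 1)) / (c' + 1) =
      ∑ i ∈ Finset.range c', (a * (c' - i)) / (c' + 1) := by
    rw [← Finset.sum_range_reflect]
    refine Finset.sum_congr rfl fun i hi => ?_
    rw [Finset.mem_range] at hi
    congr 2
    omega
  conv_lhs => rw [h1]
  nth_rewrite 2 [← h1]
  rw [← Finset.sum_add_distrib]
  have h2 : ∀ i ∈ Finset.range c', (a * (c' - i)) / (c' + 1) + (a * (i + 1)) / (c' + 1) = a - 1 := by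
    intro i hi
    rw [Finset.mem_range] at hi
    set q := (a * (i + 1)) / (c' + 1) with hq
    set ρ := (a * (i + 1)) % (c' + 1) with hρ
    have h3 : (c' + 1) * q + ρ = a * (i + 1) := Nat.div_add_mod _ _
    have h4 : ρ < c' + 1 := Nat.mod_lt _ (by omega)
    have h5 : ρ ≠ 0 := by
      intro h0
      have h6 : (c' + 1) ∣ a * (i + 1) := Nat.dvd_of_mod_eq_zero h0
      have h7 := (h.symm).dvd_of_dvd_mul_left h6
      have := Nat.le_of_dvd (by omega) h7
      omega
    have h6 : q < a := by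
      by_contra h7
      push Not at h7
      have h8 : (c' + 1) * a ≤ (c' + 1) * q := Nat.mul_le_mul_left _ h7
      have h9 : a * (i + 1) ≤ a * c' := Nat.mul_le_mul_left _ (by omega)
      have h10 : (c' + 1) * a = a * c' + a := by ring
      omega
    have h7 : a * (c' - i) = (c' + 1) * (a - 1 - q) + (c' + 1 - ρ) := by
      have h8 : a * (c' - i) + a * (i + 1) = a * (c' + 1) := by
        rw [← mul_add]
        congr 1
        omega
      have h9 : (c' + 1) * (a - 1 - q) + (c' + 1) * q + (c' + 1) = a * (c' + 1) := by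
        rw [← mul_add, Nat.sub_add_cancel (by omega)]
        obtain ⟨a', rfl⟩ : ∃ a', a = a' + 1 := ⟨a - 1, by omega⟩
        simp only [Nat.add_sub_cancel]
        ring
      omega
    rw [h7, Nat.mul_add_div (by omega), Nat.div_eq_of_lt (by omega)]
    omega
  rw [Finset.sum_congr rfl h2, Finset.sum_const, Finset.card_range, smul_eq_mul, Nat.add_sub_cancel, mul_comm]

variable {k K : Type*} [Field k] [Field K] [Algebra k K] {S : Sep k} (G : S.Good) {x y : K} (M : S.Model x y)
  {D : K → ℤ} (H : IsDeg k D) (hDx : D x = S.d) (hDy : D y = S.m)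

/-- The degrees of the basis. -/
def Sep.s {k : Type*} [Field k] (S : Sep k) (j : ℕ) : ℕ := S.m * j - S.d * ∑ l, S.nn j l

include G in
theorem Sep.Good.sum_nn_le {j : ℕ} (hj : j ≤ S.d) : S.d * ∑ l, S.nn j l ≤ S.m * j := by
  have hc := G.hc
  have h1 : S.c * ∑ l, S.nn j l ≤ S.m * (j - S.e) := by
    rw [Finset.mul_sum, Sep.m, Finset.sum_mul]
    exact Finset.sum_le_sum fun l _ => Nat.mul_div_le _ _
  have h2 : S.c * (S.d * ∑ l, S.nn j l) ≤ S.c * (S.m * j) := by
    calc S.c * (S.d * ∑ l, S.nn j l) = S.d * (S.c * ∑ l, S.nn j l) := by ring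
      _ ≤ S.d * (S.m * (j - S.e)) := Nat.mul_le_mul_left _ h1
      _ = S.m * (S.d * (j - S.e)) := by ring
      _ ≤ S.m * (S.c * j) := by
          refine Nat.mul_le_mul_left _ ?_
          by_cases hje : j ≤ S.e
          · rw [Nat.sub_eq_zero_of_le hje, mul_zero]; exact Nat.zero_le _
          · obtain ⟨i, hi⟩ := Nat.exists_eq_add_of_le (not_le.mp hje).le
            have h3 : i ≤ S.c := by unfold Sep.d at hj; omega
            rw [hi, Nat.add_sub_cancel_left, Sep.d]
            nlinarith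
      _ = S.c * (S.m * j) := by ring
  exact Nat.le_of_mul_le_mul_left h2 hc

theorem Sep.om_natDegree (S : Sep k) (j : ℕ) : (S.om j).natDegree = ∑ l, S.nn j l := by
  rw [Sep.om, natDegree_prod_of_monic _ _ fun _ _ => (monic_X_sub_C _).pow _]
  simp [(monic_X_sub_C _).natDegree_pow]

include G M H hDx hDy

theorem Sep.Model.y_ne_zero : y ≠ 0 := by
  rintro rfl
  have h1 := M.eq
  rw [aeval_def, eval₂_at_zero] at h1
  have h2 := (H.D_aeval M.ne_zero (by exact_mod_cast G.hd) hDx S.w_monic.ne_zero)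
  have hl : algebraMap k K S.lam ≠ 0 := (_root_.map_ne_zero _).mpr G.lam0
  have h3 : D (algebraMap k K S.lam * aeval x S.w) = S.d * S.m := by
    rw [H.mul _ _ hl h2.1, H.const _ G.lam0, h2.2, S.w_natDegree, zero_add]
  have h4 : (0 : ℤ) < S.d * S.m := by
    have := G.hd
    have := G.hm
    positivity
  by_cases h5 : S.u.coeff 0 = 0
  · rw [h5, map_zero] at h1
    exact mul_ne_zero hl h2.1 h1.symm
  · rw [← h1, H.const _ h5] at h3
    omega

theorem Sep.Model.bb_ne_zero (j : ℕ) : bb S x y j ≠ 0 := by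
  have hy := M.y_ne_zero G H hDx hDy
  have h1 := (H.D_aeval hy (by exact_mod_cast G.hm) hDy (S.bet_monic j).ne_zero).1
  exact div_ne_zero h1 (M.aeval_ne_zero (S.om_ne_zero j))

theorem Sep.Model.D_bb {j : ℕ} (hj : j ≤ S.d) : D (bb S x y j) = S.s j := by
  have hy := M.y_ne_zero G H hDx hDy
  have h1 := H.D_aeval hy (by exact_mod_cast G.hm) hDy (S.bet_monic j).ne_zero
  have h2 := H.D_aeval M.ne_zero (by exact_mod_cast G.hd) hDx (S.om_ne_zero j)
  rw [bb, H.div h1.1 h2.1, h1.2, h2.2, S.bet_natDegree, S.om_natDegree, Sep.s, Nat.cast_sub (G.sum_nn_le hj)]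
  push_cast
  ring

omit M H hDx hDy in
theorem Sep.Good.s_mod {j : ℕ} (hj : j ≤ S.d) : S.s j % S.d = (S.m * j) % S.d := by
  have h1 := G.sum_nn_le hj
  rw [Sep.s]
  conv_rhs => rw [← Nat.sub_add_cancel h1, Nat.add_mul_mod_self_left]

omit M H hDx hDy in
theorem Sep.Good.inj {i j : Fin S.d} (h : S.s i % S.d = S.s j % S.d) : i = j := by
  rw [G.s_mod i.2.le, G.s_mod j.2.le] at h
  have h1 : S.m * (i : ℕ) ≡ S.m * j [MOD S.d] := h
  have h2 : (i : ℕ) ≡ j [MOD S.d] :=
    Nat.ModEq.cancel_left_of_coprime (by rw [Nat.gcd_comm]; exact G.mcop) h1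
  exact Fin.ext (Nat.ModEq.eq_of_lt_of_lt h2 i.2 j.2)

omit M H hDx hDy in
/-- The permutation given by the residues of the degrees. -/
theorem Sep.Good.exists_perm : ∃ σ : Fin S.d ≃ Fin S.d, ∀ i, S.s (σ i) % S.d = i := by
  let τ : Fin S.d → Fin S.d := fun j => ⟨S.s j % S.d, Nat.mod_lt _ G.hd⟩
  have hτ : Function.Bijective τ := by
    rw [← Finite.injective_iff_bijective]
    intro i j hij
    exact G.inj (congrArg Fin.val hij)
  refine ⟨(Equiv.ofBijective τ hτ).symm, fun i => ?_⟩
  have := (Equiv.ofBijective τ hτ).apply_symm_apply i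
  exact congrArg Fin.val this

/-- The degree of an element of the coordinate ring is attained by one term. -/
theorem Sep.Model.exists_term (α : Fin S.d → k[X]) (h0 : ∑ j : Fin S.d, aeval x (α j) * bb S x y j ≠ 0) :
    ∃ j : Fin S.d, α j ≠ 0 ∧ D (∑ j : Fin S.d, aeval x (α j) * bb S x y j) = S.d * (α j).natDegree + S.s j := by
  set f := ∑ j : Fin S.d, aeval x (α j) * bb S x y j with hf
  have hd : (0 : ℤ) < S.d := by exact_mod_cast G.hd
  have hterm : ∀ j : Fin S.d, α j ≠ 0 → D (aeval x (α j) * bb S x y j) = S.d * (α j).natDegree + S.s j := by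
    intro j hj
    have h1 := H.D_aeval M.ne_zero hd hDx hj
    rw [H.mul _ _ h1.1 (M.bb_ne_zero G H hDx hDy j), h1.2, M.D_bb G H hDx hDy j.2.le]
  have hne : ∀ j : Fin S.d, aeval x (α j) * bb S x y j ≠ 0 → α j ≠ 0 := by
    intro j hj h1
    rw [h1, map_zero, zero_mul] at hj
    exact hj rfl
  have hmem := H.mem_fil_of_sum Finset.univ (fun j : Fin S.d => aeval x (α j) * bb S x y j) (by
    intro i _ j _ hij hi hj heq
    rw [hterm i (hne i hi), hterm j (hne j hj)] at heq
    refine hij (G.inj ?_)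
    have h1 : S.d * (α i).natDegree + S.s i = S.d * (α j).natDegree + S.s j := by exact_mod_cast heq
    have h2 := congrArg (· % S.d) h1
    simpa [Nat.mul_add_mod] using h2) (D f) (H.mem_fil_of_le le_rfl)
  by_contra hcon
  push Not at hcon
  have h1 : f ∈ H.Fil (D f - 1) := by
    refine sum_mem (t := Finset.univ) (f := fun j : Fin S.d => aeval x (α j) * bb S x y j) fun j _ => ?_
    by_cases hj : aeval x (α j) * bb S x y j = 0
    · rw [hj]; exact zero_mem _
    have h2 := (H.mem_fil_of_ne hj).mp (hmem j (Finset.mem_univ j))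
    have h3 : D f ≠ D (aeval x (α j) * bb S x y j) := by
      rw [hterm j (hne j hj)]
      exact hcon j (hne j hj)
    have h4 : D (aeval x (α j) * bb S x y j) ≤ D f := h2
    exact H.mem_fil_of_le (by omega)
  rw [H.mem_fil_of_ne h0] at h1
  omega

section Closed

variable [IsAlgClosed k]

theorem Sep.Model.exists_apery_x : ∃ (b : Fin S.d → K) (σ : Fin S.d ≃ Fin S.d),
    IsApery D (ring k x) S.d b (fun i => S.s (σ i)) := by
  obtain ⟨σ, hσ⟩ := G.exists_perm
  refine ⟨fun i => bb S x y (σ i), σ, ?_, ?_, ?_, hσ, ?_⟩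
  · intro j
    exact M.isIntegral_bb G (σ j).2
  · intro j
    exact M.bb_ne_zero G H hDx hDy _
  · intro j
    exact M.D_bb G H hDx hDy (σ j).2.le
  · intro i f hf hf0 n hn hni
    obtain ⟨α, rfl⟩ := (M.mem_ring_iff G f).mp hf
    obtain ⟨j, hj, hD⟩ := M.exists_term G H hDx hDy α hf0
    rw [hn] at hD
    have h1 : n = S.d * (α j).natDegree + S.s j := by exact_mod_cast hD
    have h2 : σ i = j := by
      refine G.inj ?_
      rw [hσ i, ← hni, h1, Nat.mul_add_mod]
    rw [h2]
    omega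

theorem Sep.Model.isOnePlace : IsOnePlace k D (ring k x) := by
  have hx : x ∈ ring k x := isIntegral_algebraMap (R := Algebra.adjoin k {x}) (A := K)
    (x := ⟨x, Algebra.subset_adjoin rfl⟩)
  refine ⟨H, ?_, ?_, ?_, ?_⟩
  · intro f hf hf0
    obtain ⟨α, rfl⟩ := (M.mem_ring_iff G f).mp hf
    obtain ⟨j, hj, hD⟩ := M.exists_term G H hDx hDy α hf0
    rw [hD]
    positivity
  · intro f hf
    have h1 : IsIntegral (integralClosure (Algebra.adjoin k {x}) K) f := hf
    exact isIntegral_trans (R := Algebra.adjoin k {x}) f h1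
  · intro f
    obtain ⟨q, hq, α, hα⟩ := M.exists_repr f
    refine ⟨_, (M.mem_ring_iff G _).mpr ⟨α, rfl⟩, aeval x q, isIntegral_aeval x q, M.aeval_ne_zero hq, ?_⟩
    rw [mul_comm, hα]
  · obtain ⟨b, σ, A⟩ := M.exists_apery_x G H hDx hDy
    refine (Set.finite_Iio (∑ i, S.s (σ i))).subset fun n hn => ?_
    by_contra h
    rw [Set.mem_Iio, not_lt] at h
    refine (notMem_gapSet_iff A H M.ne_zero G.hd hDx hx n).mpr ?_ hn
    refine le_trans ?_ h
    exact Finset.single_le_sum (f := fun i => S.s (σ i)) (fun _ _ => Nat.zero_le _) (Finset.mem_univ _)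

/-- **The genus.** -/
theorem Sep.Model.two_mul_card_gapSet :
    2 * Nat.card (gapSet D (ring k x)) + ∑ l, (S.a l - 1) * (S.c - 1) = (S.m - 1) * (S.d - 1) := by
  have hx : x ∈ ring k x := isIntegral_algebraMap (R := Algebra.adjoin k {x}) (A := K)
    (x := ⟨x, Algebra.subset_adjoin rfl⟩)
  obtain ⟨b, σ, A⟩ := M.exists_apery_x G H hDx hDy
  have hd := G.hd
  have h1 := sum_e A hx M.ne_zero hd hDx H
  rw [Equiv.sum_comp σ (fun j => (S.s j + S.d - 1) / S.d - 1)] at h1
  have h2 : ∀ j : Fin S.d, (S.s j + S.d - 1) / S.d - 1 + ∑ l, S.nn j l = (S.m * j) / S.d := by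
    intro j
    have h3 := G.sum_nn_le j.2.le
    have h4 : (S.m * j) / S.d = S.s j / S.d + ∑ l, S.nn j l := by
      rw [Sep.s]
      conv_lhs => rw [← Nat.sub_add_cancel h3]
      rw [Nat.add_mul_div_left _ _ hd]
    rw [h4]
    congr 1
    by_cases hj : (j : ℕ) = 0
    · have h5 : S.s j = 0 := by rw [Sep.s, hj, mul_zero, Nat.zero_sub]
      rw [h5, Nat.zero_div, Nat.div_eq_of_lt (by omega)]
    · have h5 : S.s j % S.d ≠ 0 := by
        intro h6
        have h7 : S.s j % S.d = S.s (⟨0, hd⟩ : Fin S.d) % S.d := by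
          rw [h6]
          simp [Sep.s]
        have h8 := G.inj h7
        rw [h8] at hj
        exact hj rfl
      have h6 := Nat.div_add_mod (S.s j) S.d
      have h7 := Nat.mod_lt (S.s j) hd
      have h8 : S.s j + S.d - 1 = S.d * (S.s j / S.d) + (S.s j % S.d + S.d - 1) := by omega
      have h9 : (S.s j % S.d - 1) / S.d = 0 := Nat.div_eq_of_lt (by omega)
      rw [h8, Nat.mul_add_div hd, show S.s j % S.d + S.d - 1 = (S.s j % S.d - 1) + S.d by omega,
        Nat.add_div_right _ hd, h9]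
      rfl
  have h3 : Nat.card (gapSet D (ring k x)) + ∑ j : Fin S.d, ∑ l, S.nn j l = ∑ j : Fin S.d, (S.m * j) / S.d := by
    rw [← h1, ← Finset.sum_add_distrib]
    exact Finset.sum_congr rfl fun j _ => h2 j
  have h4 : 2 * ∑ j : Fin S.d, (S.m * j) / S.d = (S.m - 1) * (S.d - 1) := by
    rw [Fin.sum_univ_eq_sum_range (fun j => (S.m * j) / S.d) S.d]
    exact two_mul_sum_div G.hm hd G.mcop
  have h5 : ∀ l, 2 * ∑ j : Fin S.d, S.nn j l = (S.a l - 1) * (S.c - 1) := by
    intro l
    rw [Fin.sum_univ_eq_sum_range (fun j => S.nn j l) S.d, Sep.d, Finset.sum_range_add,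
      ← two_mul_sum_div (G.apos l) G.hc (G.acop l)]
    congr 1
    have h6 : ∑ j ∈ Finset.range S.e, S.nn j l = 0 := by
      refine Finset.sum_eq_zero fun j hj => ?_
      rw [Finset.mem_range] at hj
      rw [Sep.nn, Nat.sub_eq_zero_of_le hj.le, mul_zero, Nat.zero_div]
    rw [h6, zero_add]
    refine Finset.sum_congr rfl fun i _ => ?_
    rw [Sep.nn, Nat.add_sub_cancel_left]
  rw [← h4, ← h3, mul_add]
  congr 1
  rw [Finset.sum_comm, Finset.mul_sum]
  exact Finset.sum_congr rfl fun l _ => (h5 l).symm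

end Closed

end K310.SepData
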