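import Groth.Agent.Curves.K310.SepChart
import Groth.Agent.Curves.K310.OnePlace

/-!
# Curves with separated variables have one place at infinity; their genus
-/

set_option autoImplicit false
set_option linter.style.haveILetI false

open Polynomial

namespace K310.SepData

open DegFun ValTools SepDeg OnePlace

variable {k K : Type*} [Field k] [Field K] [Algebra k K] {S : Sep k} (G : S.Good) {x y : K} (M : S.Model x y)

theorem exists_bet_sum (S : Sep k) (n : ℕ) : ∀ p : k[X], p.degree < n →
    ∃ c : Fin n → k, p = ∑ i : Fin n, C (c i) * S.bet i := by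
  induction n with
  | zero =>
    intro p hp
    have : p = 0 := by
      rw [← degree_eq_bot]
      by_contra h
      rw [degree_eq_natDegree (fun h0 => h (by rw [h0, degree_zero]))] at hp
      exact absurd hp (by simp)
    exact ⟨0, by simp [this]⟩
  | succ n ih =>
    intro p hp
    have h1 : (p - C (p.coeff n) * S.bet n).degree < n := by
      rw [degree_lt_iff_coeff_zero]
      intro j hj
      rw [coeff_sub, coeff_C_mul]
      rcases hj.eq_or_lt with h | h
      · subst h
        have h2 : (S.bet n).coeff n = 1 := by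
          have := (S.bet_monic n).coeff_natDegree
          rwa [S.bet_natDegree] at this
        rw [h2, mul_one, sub_self]
      · rw [coeff_eq_zero_of_degree_lt (lt_of_lt_of_le hp (by exact_mod_cast h)),
          coeff_eq_zero_of_natDegree_lt (p := S.bet n) (by rwa [S.bet_natDegree]), mul_zero, sub_zero]
    obtain ⟨c, hc⟩ := ih _ h1
    refine ⟨Fin.snoc c (p.coeff n), ?_⟩
    rw [Fin.sum_univ_castSucc]
    simp only [Fin.snoc_castSucc, Fin.snoc_last, Fin.val_castSucc, Fin.val_last]
    rw [← hc, sub_add_cancel]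

include M in
theorem Sep.Model.exists_repr (f : K) : ∃ q : k[X], q ≠ 0 ∧ ∃ α : Fin S.d → k[X],
    aeval x q * f = ∑ j : Fin S.d, aeval x (α j) * bb S x y j := by
  obtain ⟨q, hq, g, hg⟩ := M.span f
  have h1 : ∀ j : Fin S.d, ∃ c : Fin S.d → k, (X ^ (j : ℕ) : k[X]) = ∑ i : Fin S.d, C (c i) * S.bet i := by
    intro j
    refine exists_bet_sum S S.d _ ?_
    rw [degree_X_pow]
    exact_mod_cast j.2
  choose c hc using h1
  refine ⟨q, hq, fun i => ∑ j, g j * (C (c j i) * S.om i), ?_⟩
  rw [hg]
  simp only [map_sum, Finset.sum_mul]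
  rw [Finset.sum_comm]
  refine Finset.sum_congr rfl fun j _ => ?_
  have h2 : y ^ (j : ℕ) = ∑ i : Fin S.d, algebraMap k K (c j i) * aeval y (S.bet i) := by
    have := congrArg (aeval y) (hc j)
    simpa [map_sum] using this
  rw [h2, Finset.mul_sum]
  refine Finset.sum_congr rfl fun i _ => ?_
  rw [map_mul, map_mul, aeval_C, mul_assoc, mul_assoc, M.om_mul_bb]

section Closed

variable [IsAlgClosed k]

include G M in
theorem Sep.Model.coeff {x0 : k} (α : Fin S.d → k[X]) {f : K} (hf : IsIntegral (Algebra.adjoin k {x}) f)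
    (h : ∑ j : Fin S.d, aeval x (α j) * bb S x y j = (x - algebraMap k K x0) * f) :
    ∀ j : Fin S.d, (α j).eval x0 = 0 := by
  by_cases hx0 : S.w.eval x0 = 0
  · rw [Sep.w, eval_prod, Finset.prod_eq_zero_iff] at hx0
    obtain ⟨l, _, hl⟩ := hx0
    rw [eval_pow, eval_sub, eval_X, eval_C] at hl
    have h5 := sub_eq_zero.mp (eq_zero_of_pow_eq_zero hl)
    subst h5
    exact M.coeff_crit G l α hf h
  · exact M.coeff_noncrit G hx0 α hf h

include G M in
theorem Sep.Model.exists_of_isIntegral_aux (n : ℕ) : ∀ (q : k[X]) (f : K) (α : Fin S.d → k[X]), q.natDegree ≤ n →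
    q ≠ 0 → IsIntegral (Algebra.adjoin k {x}) f → aeval x q * f = ∑ j : Fin S.d, aeval x (α j) * bb S x y j →
    ∃ α' : Fin S.d → k[X], f = ∑ j : Fin S.d, aeval x (α' j) * bb S x y j := by
  induction n with
  | zero =>
    intro q f α hqn hq hf h
    obtain ⟨c, rfl⟩ := natDegree_eq_zero.mp (Nat.le_zero.mp hqn)
    have hc : c ≠ 0 := fun h0 => hq (by rw [h0, C_0])
    refine ⟨fun j => C c⁻¹ * α j, ?_⟩
    simp only [map_mul, aeval_C, mul_assoc]
    rw [← Finset.mul_sum, ← h, aeval_C, ← mul_assoc, ← map_mul, inv_mul_cancel₀ hc, map_one, one_mul]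
  | succ n ih =>
    intro q f α hqn hq hf h
    by_cases hq0 : q.natDegree = 0
    · exact ih q f α (by omega) hq hf h
    obtain ⟨x0, hx0⟩ := IsAlgClosed.exists_root q (by
      rw [degree_eq_natDegree hq]
      exact_mod_cast hq0)
    obtain ⟨q', hq'⟩ := dvd_iff_isRoot.mpr hx0
    have hq'0 : q' ≠ 0 := by
      rintro rfl
      rw [mul_zero] at hq'
      exact hq hq'
    have h1 : ∑ j : Fin S.d, aeval x (α j) * bb S x y j = (x - algebraMap k K x0) * (aeval x q' * f) := by
      rw [← h, hq', map_mul, map_sub, aeval_X, aeval_C]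
      ring
    have h2 := M.coeff G α ((isIntegral_aeval x q').mul hf) h1
    choose α' hα' using fun j => dvd_iff_isRoot.mpr (h2 j)
    refine ih q' f α' ?_ hq'0 hf ?_
    · rw [hq', natDegree_mul (X_sub_C_ne_zero _) hq'0, natDegree_X_sub_C] at hqn
      omega
    · have h3 : x - algebraMap k K x0 ≠ 0 := by
        intro h0
        refine M.tr ?_
        rw [sub_eq_zero.mp h0]
        exact isAlgebraic_algebraMap _
      refine mul_left_cancel₀ h3 ?_
      rw [← h1, Finset.mul_sum]
      refine Finset.sum_congr rfl fun j _ => ?_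
      rw [hα' j, map_mul, map_sub, aeval_X, aeval_C, mul_assoc]

include G M in
theorem Sep.Model.exists_of_isIntegral {f : K} (hf : IsIntegral (Algebra.adjoin k {x}) f) :
    ∃ α : Fin S.d → k[X], f = ∑ j : Fin S.d, aeval x (α j) * bb S x y j := by
  obtain ⟨q, hq, α, hα⟩ := M.exists_repr f
  exact M.exists_of_isIntegral_aux G q.natDegree q f α le_rfl hq hf hα

end Closed

include G M in
theorem Sep.Model.isIntegral_y : IsIntegral (Algebra.adjoin k {x}) y := by
  have hx : aeval x S.w ∈ Algebra.adjoin k {x} := by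
    rw [Algebra.adjoin_singleton_eq_range_aeval]
    exact ⟨_, rfl⟩
  have hlx : algebraMap k K S.lam * aeval x S.w ∈ Algebra.adjoin k {x} :=
    mul_mem (Subalgebra.algebraMap_mem _ _) hx
  refine ⟨S.u.map (algebraMap k (Algebra.adjoin k {x})) - C ⟨_, hlx⟩, ?_, ?_⟩
  · refine (S.u_monic.map _).sub_of_left ?_
    rw [S.u_monic.degree_map, degree_eq_natDegree S.u_monic.ne_zero, S.u_natDegree]
    refine degree_C_le.trans_lt ?_
    exact_mod_cast G.hd
  · rw [eval₂_sub, eval₂_map, eval₂_C]
    have h1 : (algebraMap (Algebra.adjoin k {x}) K).comp (algebraMap k (Algebra.adjoin k {x})) = algebraMap k K :=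
      (IsScalarTower.algebraMap_eq k (Algebra.adjoin k {x}) K).symm
    rw [h1, ← aeval_def, M.eq]
    exact sub_self _

theorem isIntegral_aeval_of {y : K} {x : K} (hy : IsIntegral (Algebra.adjoin k {x}) y) (p : k[X]) :
    IsIntegral (Algebra.adjoin k {x}) (aeval y p) := by
  rw [aeval_eq_sum_range]
  refine IsIntegral.sum _ fun i _ => ?_
  rw [Algebra.smul_def]
  refine IsIntegral.mul ?_ (hy.pow i)
  exact isIntegral_algebraMap (R := Algebra.adjoin k {x}) (A := K) (x := algebraMap k _ (p.coeff i))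

include G M in
theorem Sep.Model.isIntegral_bb {j : ℕ} (hj : j < S.d) : IsIntegral (Algebra.adjoin k {x}) (bb S x y j) := by
  by_cases hje : j < S.e
  · rw [bb_of_lt hje]
    exact (M.isIntegral_y G).pow j
  rw [not_lt] at hje
  have hjc : j - S.e ≤ S.c := by unfold Sep.d at hj; omega
  refine IsIntegral.of_pow G.hc ?_
  -- `b ^ c` in terms of `x` and `y`
  set ρ : k[X] := ∏ l, (X - C (S.ξ l)) ^ ((S.a l * (j - S.e)) % S.c) with hρ
  have h1 : S.w ^ (j - S.e) = S.om j ^ S.c * ρ := by
    rw [Sep.w, Sep.om, hρ, ← Finset.prod_pow, ← Finset.prod_pow, ← Finset.prod_mul_distrib]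
    refine Finset.prod_congr rfl fun l _ => ?_
    rw [← pow_mul, ← pow_mul, ← pow_add, Sep.nn, mul_comm (_ / _) S.c, Nat.div_add_mod]
  have h2 : aeval y (S.bet j) ^ S.c =
      aeval y (S.u1 ^ (S.c - (j - S.e))) * (algebraMap k K S.lam * aeval x S.w) ^ (j - S.e) := by
    rw [← M.eq, ← map_pow, ← map_pow, ← map_mul, S.bet_of_le hje, Sep.u]
    congr 1
    rw [mul_pow, mul_pow, ← pow_mul, ← pow_mul, ← mul_assoc, ← pow_add, Nat.sub_add_cancel hjc,
      mul_comm (j - S.e) S.c]
  have h3 : bb S x y j ^ S.c =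
      aeval y (S.u1 ^ (S.c - (j - S.e))) * (algebraMap k K S.lam ^ (j - S.e) * aeval x ρ) := by
    rw [bb, div_pow, div_eq_iff (pow_ne_zero _ (M.aeval_ne_zero (S.om_ne_zero j))), h2, mul_pow, ← map_pow (aeval x),
      h1, map_mul, map_pow (aeval x)]
    ring
  rw [h3]
  refine (isIntegral_aeval_of (M.isIntegral_y G) _).mul (IsIntegral.mul ?_ (isIntegral_aeval x ρ))
  exact (isIntegral_algebraMap (R := Algebra.adjoin k {x}) (A := K) (x := algebraMap k _ S.lam)).pow _

/-- The coordinate ring: the integral closure of `k[x]`. -/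
noncomputable def ring (k : Type*) {K : Type*} [Field k] [Field K] [Algebra k K] (x : K) : Subalgebra k K :=
  (integralClosure (Algebra.adjoin k {x}) K).restrictScalars k

theorem mem_ring (x f : K) : f ∈ ring k x ↔ IsIntegral (Algebra.adjoin k {x}) f := Iff.rfl

include G M in
theorem Sep.Model.mem_ring_iff [IsAlgClosed k] (f : K) : f ∈ ring k x ↔
    ∃ α : Fin S.d → k[X], f = ∑ j : Fin S.d, aeval x (α j) * bb S x y j := by
  rw [mem_ring]
  constructor
  · exact M.exists_of_isIntegral G
  · rintro ⟨α, rfl⟩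
    exact IsIntegral.sum _ fun j _ => (isIntegral_aeval x _).mul (M.isIntegral_bb G j.2)

end K310.SepData
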