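import Groth.Agent.Curves.K310.DegFun
import Mathlib.RingTheory.Valuation.LocalSubring
import Mathlib.RingTheory.Polynomial.Basic
import Mathlib.Data.Int.GCD

/-!
# Valuations trivial on the ground field
-/

set_option autoImplicit false

open Polynomial

namespace K310.ValTools

/-- A ring map `φ : R → K` and a specialization `ev` of its image: there is a valuation ring containing the image of `φ`
whose maximal ideal contains the image of the kernel of `ev`. -/
theorem exists_valuationSubring {R K S : Type*} [CommRing R] [Field K] [CommRing S] [Nontrivial S]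
    (φ : R →+* K) (ev : R →+* S) (h : ∀ r, φ r = 0 → ev r = 0) :
    ∃ V : ValuationSubring K, (∀ r, V.valuation (φ r) ≤ 1) ∧ ∀ r, ev r = 0 → V.valuation (φ r) < 1 := by
  have hI : Ideal.map φ.rangeRestrict (RingHom.ker ev) ≠ ⊤ := by
    intro h1
    rw [Ideal.eq_top_iff_one, Ideal.mem_map_iff_of_surjective _ φ.rangeRestrict_surjective] at h1
    obtain ⟨r, hr, hr1⟩ := h1
    have h2 : φ (r - 1) = 0 := by
      have := congrArg Subtype.val hr1
      rw [map_sub, map_one, sub_eq_zero]
      exact this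
    have h3 := h _ h2
    rw [map_sub, (RingHom.mem_ker).mp hr, map_one, zero_sub, neg_eq_zero] at h3
    exact one_ne_zero h3
  obtain ⟨V, hV, hV'⟩ := Ideal.image_subset_nonunits_valuationSubring _ hI
  refine ⟨V, fun r => ?_, fun r hr => ?_⟩
  · rw [ValuationSubring.valuation_le_one_iff]
    exact hV ⟨r, rfl⟩
  · rw [← ValuationSubring.mem_nonunits_iff]
    exact hV' ⟨φ.rangeRestrict r, Ideal.mem_map_of_mem _ hr, rfl⟩

section Triv

variable {k K Γ : Type*} [Field k] [Field K] [Algebra k K] [LinearOrderedCommGroupWithZero Γ]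
  (v : Valuation K Γ)

/-- The valuation is trivial on the ground field. -/
def Triv (k : Type*) {K Γ : Type*} [Field k] [Field K] [Algebra k K] [LinearOrderedCommGroupWithZero Γ]
    (v : Valuation K Γ) : Prop := ∀ c : k, c ≠ 0 → v (algebraMap k K c) = 1

variable {v}

theorem triv_of_le (h : ∀ c : k, v (algebraMap k K c) ≤ 1) : Triv k v := by
  intro c hc
  refine le_antisymm (h c) ?_
  have h1 := h c⁻¹
  rw [map_inv₀, map_inv₀] at h1
  have h2 : v (algebraMap k K c) ≠ 0 := (v.ne_zero_iff).mpr ((_root_.map_ne_zero _).mpr hc)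
  exact (inv_le_one₀ (zero_lt_iff.mpr h2)).mp h1

variable (ht : Triv k v)
include ht

theorem const_le (c : k) : v (algebraMap k K c) ≤ 1 := by
  by_cases hc : c = 0
  · rw [hc, map_zero, map_zero]; exact zero_le_one
  · exact (ht c hc).le

theorem poly_le {z : K} (hz : v z ≤ 1) (p : k[X]) : v (aeval z p) ≤ 1 := by
  rw [aeval_eq_sum_range]
  refine v.map_sum_le fun i _ => ?_
  rw [Algebra.smul_def, map_mul, map_pow]
  exact mul_le_one' (const_le ht _) (pow_le_one' hz i)

theorem le_of_sub {z : K} {z0 : k} (hz : v (z - algebraMap k K z0) ≤ 1) : v z ≤ 1 := by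
  have h1 : z = (z - algebraMap k K z0) + algebraMap k K z0 := by ring
  rw [h1]
  exact v.map_add_le hz (const_le ht z0)

theorem sub_const_lt {z : K} {z0 : k} (hz : v (z - algebraMap k K z0) < 1) (p : k[X]) :
    v (aeval z p - algebraMap k K (p.eval z0)) ≤ v (z - algebraMap k K z0) := by
  obtain ⟨q, hq⟩ : (X - C z0) ∣ p - C (p.eval z0) := X_sub_C_dvd_sub_C_eval
  have h1 : aeval z p - algebraMap k K (p.eval z0) = (z - algebraMap k K z0) * aeval z q := by
    have := congrArg (aeval z) hq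
    simpa using this
  rw [h1, map_mul]
  exact mul_le_of_le_one_right' (poly_le ht (le_of_sub ht hz.le) q)

theorem poly_unit {z : K} {z0 : k} (hz : v (z - algebraMap k K z0) < 1) {p : k[X]} (hp : p.eval z0 ≠ 0) :
    v (aeval z p) = 1 := by
  have h1 : aeval z p = algebraMap k K (p.eval z0) + (aeval z p - algebraMap k K (p.eval z0)) := by ring
  have h2 : v (aeval z p - algebraMap k K (p.eval z0)) < v (algebraMap k K (p.eval z0)) := by
    rw [ht _ hp]
    exact (sub_const_lt ht hz p).trans_lt hz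
  rw [h1, v.map_add_eq_of_lt_left h2, ht _ hp]

theorem poly_lt_iff {z : K} {z0 : k} (hz : v (z - algebraMap k K z0) < 1) {p : k[X]} :
    v (aeval z p) < 1 ↔ p.eval z0 = 0 := by
  constructor
  · intro h
    by_contra h1
    rw [poly_unit ht hz h1] at h
    exact lt_irrefl _ h
  · intro h
    have := sub_const_lt ht hz p
    rw [h, map_zero, sub_zero] at this
    exact this.trans_lt hz

theorem poly_root {z : K} {z0 : k} (hz : v (z - algebraMap k K z0) < 1) {p : k[X]} (hp : p ≠ 0) :
    v (aeval z p) = v (z - algebraMap k K z0) ^ (p.rootMultiplicity z0) := by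
  obtain ⟨q, hq, hq'⟩ := exists_eq_pow_rootMultiplicity_mul_and_not_dvd p hp z0
  conv_lhs => rw [hq]
  rw [map_mul, map_mul, map_pow, poly_unit ht hz (p := q) (fun h => hq' (dvd_iff_isRoot.mpr h)), mul_one,
    map_pow]
  simp

theorem poly_infinity {z : K} (hz : 1 < v z) {p : k[X]} (hp : p ≠ 0) :
    v (aeval z p) = v z ^ p.natDegree := by
  have hz0 : z ≠ 0 := by
    rintro rfl
    rw [map_zero] at hz
    exact not_lt_zero hz
  have hvz : v z ≠ 0 := (v.ne_zero_iff).mpr hz0
  have h1 : v z⁻¹ < 1 := by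
    rw [map_inv₀]
    exact inv_lt_one_of_one_lt₀ hz
  let _ := invertibleOfNonzero hz0
  have h2 := eval₂_reverse_mul_pow (algebraMap k K) z p
  change aeval (⅟z) (reverse p) * z ^ p.natDegree = aeval z p at h2
  rw [← h2, map_mul, map_pow, invOf_eq_inv, poly_unit ht (z0 := 0) (by simpa using h1), one_mul]
  rw [← coeff_zero_eq_eval_zero, coeff_zero_reverse]
  exact leadingCoeff_ne_zero.mpr hp

end Triv

section Sum

variable {K Γ : Type*} [Field K] [LinearOrderedCommGroupWithZero Γ] (v : Valuation K Γ)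

theorem le_of_sum {ι : Type*} (s : Finset ι) (g : ι → K)
    (hd : ∀ i ∈ s, ∀ j ∈ s, i ≠ j → g i ≠ 0 → g j ≠ 0 → v (g i) ≠ v (g j)) :
    ∀ i ∈ s, v (g i) ≤ v (∑ i ∈ s, g i) := by
  classical
  by_contra hcon
  push Not at hcon
  obtain ⟨i0, hi0, hi0'⟩ := hcon
  obtain ⟨i, hi, hmax⟩ := Finset.exists_max_image s (fun i => v (g i)) ⟨i0, hi0⟩
  have h0 : v (∑ i ∈ s, g i) < v (g i) := hi0'.trans_le (hmax i0 hi0)
  have hgi : v (g i) ≠ 0 := fun h => by rw [h] at h0; exact not_lt_zero h0
  have hgi' : g i ≠ 0 := (v.ne_zero_iff).mp hgi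
  have h1 : v (∑ j ∈ s.erase i, g j) < v (g i) := by
    refine v.map_sum_lt hgi fun j hj => ?_
    rw [Finset.mem_erase] at hj
    by_cases hj0 : g j = 0
    · rw [hj0, map_zero]; exact zero_lt_iff.mpr hgi
    · exact lt_of_le_of_ne (hmax j hj.2) (hd j hj.2 i hi hj.1 hj0 hgi')
  have h2 : g i = ∑ i ∈ s, g i - ∑ j ∈ s.erase i, g j := by
    rw [← Finset.add_sum_erase s g hi, add_sub_cancel_right]
  have h3 : v (g i) < v (g i) := by
    conv_lhs => rw [h2]
    exact v.map_sub_lt h0 h1
  exact lt_irrefl _ h3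

theorem exists_eq_of_sum {ι : Type*} (s : Finset ι) (g : ι → K)
    (hd : ∀ i ∈ s, ∀ j ∈ s, i ≠ j → g i ≠ 0 → g j ≠ 0 → v (g i) ≠ v (g j)) (h0 : ∑ i ∈ s, g i ≠ 0) :
    ∃ i ∈ s, g i ≠ 0 ∧ v (g i) = v (∑ i ∈ s, g i) := by
  by_contra hcon
  push Not at hcon
  have h1 := le_of_sum v s g hd
  have h2 : v (∑ i ∈ s, g i) < v (∑ i ∈ s, g i) := by
    refine v.map_sum_lt ((v.ne_zero_iff).mpr h0) fun i hi => ?_
    by_cases hi0 : g i = 0
    · rw [hi0, map_zero]
      exact zero_lt_iff.mpr ((v.ne_zero_iff).mpr h0)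
    · exact lt_of_le_of_ne (h1 i hi) (hcon i hi hi0)
  exact lt_irrefl _ h2

end Sum

end K310.ValTools
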